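import Groth.Agent.OmegaSh.K583.DerAffine

/-!
# Functoriality of derivations of the structure sheaf

* `pushDer h b w D`: for a commutative square `f' ≫ b = h ≫ f` and a derivation `D : O_{X'} → F'` over
  `Y'`, the derivation `O_X → h_* F'` over `Y`;
* `resDer`: for a commutative square with `j : X' → X`, `k : Y' → Y` open immersions, the restriction of a
  derivation; `isUniversal_resDer`: the restriction of a universal derivation is universal;
* `pull_hom_ext`, `diffCompat` (existence), `eq_of_isDiffCompat` (uniqueness): the canonical map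
  `h^* Ω → Ω'`.
-/

set_option autoImplicit false
universe u

open CategoryTheory CategoryTheory.Limits AlgebraicGeometry TopologicalSpace Opposite OmegaSh

namespace K583.DerFunct

open K583.DerAffine

section push

variable {X Y X' Y' : Scheme.{u}} {f : X ⟶ Y} {f' : X' ⟶ Y'} {h : X' ⟶ X} {b : Y' ⟶ Y}

/-- The direct image of a derivation. -/
noncomputable def pushDer (w : f' ≫ b = h ≫ f) {F' : X'.Modules} (D : Der f' F') :
    Der f ((Scheme.Modules.pushforward h).obj F') :=
  mkDer f _ (fun U => (D.app (h ⁻¹ᵁ U)).comp (h.app U).hom.toAddMonoidHom)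
    (fun U a c => by
      change D.app (h ⁻¹ᵁ U) (h.app U (a * c)) = _
      rw [map_mul, app_mul]
      rfl)
    (fun U V e a => by
      change D.app (h ⁻¹ᵁ V) (h.app V (X.presheaf.map (homOfLE e).op a)) = _
      have e1 : h.app V (X.presheaf.map (homOfLE e).op a) =
          X'.presheaf.map (homOfLE (h.preimage_mono e)).op (h.app U a) := by
        have := h.naturality (homOfLE e).op
        exact congr($this a)
      rw [e1, app_map]
      rfl)
    (fun V c => by
      change D.app (h ⁻¹ᵁ (f ⁻¹ᵁ V)) (h.app (f ⁻¹ᵁ V) (f.app V c)) = 0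
      have e1 : h.app (f ⁻¹ᵁ V) (f.app V c) = f'.appLE (b ⁻¹ᵁ V) (h ⁻¹ᵁ (f ⁻¹ᵁ V)) (by
          rw [← Scheme.Hom.comp_preimage, ← Scheme.Hom.comp_preimage, w]) (b.app V c) := by
        have e2 : f.app V ≫ h.app (f ⁻¹ᵁ V) = b.app V ≫ f'.appLE (b ⁻¹ᵁ V) (h ⁻¹ᵁ (f ⁻¹ᵁ V)) (by
            rw [← Scheme.Hom.comp_preimage, ← Scheme.Hom.comp_preimage, w]) := by
          simp only [Scheme.Hom.app_eq_appLE, Scheme.Hom.appLE_comp_appLE, w]
        exact congr($e2 c)
      rw [e1, app_appLE])

theorem pushDer_app (w : f' ≫ b = h ≫ f) {F' : X'.Modules} (D : Der f' F') (U : X.Opens)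
    (a : Γ(X, U)) :
    (pushDer w D).app U a = (show Γ(F', h ⁻¹ᵁ U) from D.app (h ⁻¹ᵁ U) (h.app U a)) := rfl

/-- Morphisms out of a pull-back are determined by their values on pulled-back sections. -/
theorem pull_hom_ext (h : X' ⟶ X) {M : X.Modules} {N : X'.Modules}
    {α β : (Scheme.Modules.pullback h).obj M ⟶ N}
    (H : ∀ (U : X.Opens) (s : Γ(M, U)),
      α.app (h ⁻¹ᵁ U) (pullSect h M U s) = β.app (h ⁻¹ᵁ U) (pullSect h M U s)) : α = β := by
  apply ((Scheme.Modules.pullbackPushforwardAdjunction h).homEquiv M N).injective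
  rw [Adjunction.homEquiv_unit, Adjunction.homEquiv_unit]
  apply Scheme.Modules.hom_ext
  intro U
  ext s
  exact H U s

/-- The adjoint of a morphism `M ⟶ h_* N`. -/
noncomputable def adj (h : X' ⟶ X) {M : X.Modules} {N : X'.Modules}
    (t : M ⟶ (Scheme.Modules.pushforward h).obj N) : (Scheme.Modules.pullback h).obj M ⟶ N :=
  ((Scheme.Modules.pullbackPushforwardAdjunction h).homEquiv M N).symm t

theorem adj_pullSect (h : X' ⟶ X) {M : X.Modules} {N : X'.Modules}
    (t : M ⟶ (Scheme.Modules.pushforward h).obj N) (U : X.Opens) (s : Γ(M, U)) :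
    (adj h t).app (h ⁻¹ᵁ U) (pullSect h M U s) = (show Γ(N, h ⁻¹ᵁ U) from t.app U s) := by
  have h1 := ((Scheme.Modules.pullbackPushforwardAdjunction h).homEquiv M N).apply_symm_apply t
  rw [Adjunction.homEquiv_unit] at h1
  exact congr(Scheme.Modules.Hom.app $h1 U s)

/-- Two morphisms out of a receptacle of a universal derivation agree if they agree on
differentials. -/
theorem univ_hom_ext {Ω : X.Modules} {d : Der f Ω} (hd : IsUniversal d) {F : X.Modules}
    {α β : Ω ⟶ F} (H : ∀ (U : X.Opens) (a : Γ(X, U)), α.app U (d.app U a) = β.app U (d.app U a)) :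
    α = β := by
  refine (hd F (d.postcomp β.val)).unique ?_ rfl
  apply ext_of_app
  intro U a
  exact H U a

/-- The morphism induced by a derivation. -/
noncomputable def univLift {Ω : X.Modules} {d : Der f Ω} (hd : IsUniversal d) {F : X.Modules}
    (D : Der f F) : Ω ⟶ F := (hd F D).choose

theorem univLift_app {Ω : X.Modules} {d : Der f Ω} (hd : IsUniversal d) {F : X.Modules}
    (D : Der f F) (U : X.Opens) (a : Γ(X, U)) :
    (univLift hd D).app U (d.app U a) = D.app U a := by
  have h1 : d.postcomp (univLift hd D).val = D := (hd F D).choose_spec.1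
  conv_rhs => rw [← h1]
  rfl

/-- Two receptacles of universal derivations are isomorphic. -/
theorem exists_iso_of_isUniversal {Ω Ω' : X.Modules} {d : Der f Ω} (hd : IsUniversal d)
    {d' : Der f Ω'} (hd' : IsUniversal d') :
    ∃ e : Ω ≅ Ω', ∀ (U : X.Opens) (a : Γ(X, U)), e.hom.app U (d.app U a) = d'.app U a := by
  refine ⟨⟨univLift hd d', univLift hd' d, ?_, ?_⟩, univLift_app hd d'⟩
  · apply univ_hom_ext hd
    intro U a
    refine (congrArg ((univLift hd' d).app U) (univLift_app hd d' U a)).trans ?_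
    exact univLift_app hd' d U a
  · apply univ_hom_ext hd'
    intro U a
    refine (congrArg ((univLift hd d').app U) (univLift_app hd' d U a)).trans ?_
    exact univLift_app hd d' U a

/-- A receptacle isomorphic to a universal one is universal. -/
theorem isUniversal_of_iso {Ω Ω' : X.Modules} {d : Der f Ω} (hd : IsUniversal d)
    {d' : Der f Ω'} (e : Ω ≅ Ω')
    (he : ∀ (U : X.Opens) (a : Γ(X, U)), e.hom.app U (d.app U a) = d'.app U a) :
    IsUniversal d' := by
  intro F D
  have key : ∀ (U : X.Opens) (a : Γ(X, U)), e.inv.app U (d'.app U a) = d.app U a := by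
    intro U a
    rw [← he]
    exact congr(Scheme.Modules.Hom.app $(e.hom_inv_id) U (d.app U a))
  refine ⟨e.inv ≫ univLift hd D, ?_, fun β hβ => ?_⟩
  · apply ext_of_app
    intro U a
    refine (congrArg ((univLift hd D).app U) (key U a)).trans ?_
    exact univLift_app hd D U a
  · rw [← cancel_epi e.hom, Iso.hom_inv_id_assoc]
    apply univ_hom_ext hd
    intro U a
    rw [univLift_app]
    subst hβ
    exact congrArg (β.app U) (he U a)

/-- The canonical map `h^* Ω → Ω'`. -/
noncomputable def diffMap (w : f' ≫ b = h ≫ f) {Ω : X.Modules} {d : Der f Ω} (hd : IsUniversal d)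
    {Ω' : X'.Modules} (d' : Der f' Ω') : (Scheme.Modules.pullback h).obj Ω ⟶ Ω' :=
  adj h (univLift hd (pushDer w d'))

theorem isDiffCompat_diffMap (w : f' ≫ b = h ≫ f) {Ω : X.Modules} {d : Der f Ω}
    (hd : IsUniversal d) {Ω' : X'.Modules} (d' : Der f' Ω') :
    IsDiffCompat h d d' (diffMap w hd d') := by
  intro U s
  unfold diffMap
  rw [adj_pullSect, univLift_app]
  rfl

theorem eq_of_isDiffCompat {Ω : X.Modules} {d : Der f Ω} (hd : IsUniversal d) {Ω' : X'.Modules}
    {d' : Der f' Ω'} {c c' : (Scheme.Modules.pullback h).obj Ω ⟶ Ω'} (hc : IsDiffCompat h d d' c)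
    (hc' : IsDiffCompat h d d' c') : c = c' := by
  apply ((Scheme.Modules.pullbackPushforwardAdjunction h).homEquiv Ω Ω').injective
  apply univ_hom_ext hd
  intro U a
  rw [Adjunction.homEquiv_unit, Adjunction.homEquiv_unit]
  exact (hc U a).trans (hc' U a).symm

end push

section restrict

variable {X Y X' Y' : Scheme.{u}} {f : X ⟶ Y} {f' : X' ⟶ Y'} {j : X' ⟶ X} {k : Y' ⟶ Y}
  [IsOpenImmersion j] [IsOpenImmersion k]

/-- The restriction of a derivation. -/
noncomputable def resDer (w : f' ≫ k = j ≫ f) {F : X.Modules} (D : Der f F) :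
    Der f' (F.restrict j) :=
  mkDer f' _ (fun U => (D.app (j ''ᵁ U)).comp (j.appIso U).inv.hom.toAddMonoidHom)
    (fun U a c => by
      change D.app (j ''ᵁ U) ((j.appIso U).inv (a * c)) = _
      rw [map_mul, app_mul]
      rfl)
    (fun U V e a => by
      change D.app (j ''ᵁ V) ((j.appIso V).inv (X'.presheaf.map (homOfLE e).op a)) = _
      have e1 : (j.appIso V).inv (X'.presheaf.map (homOfLE e).op a) =
          X.presheaf.map (homOfLE (j.image_mono e)).op ((j.appIso U).inv a) := by
        have := j.appIso_inv_naturality (homOfLE e).op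
        exact congr($this a)
      rw [e1, app_map]
      rfl)
    (fun V c => by
      change D.app (j ''ᵁ (f' ⁻¹ᵁ V)) ((j.appIso (f' ⁻¹ᵁ V)).inv (f'.app V c)) = 0
      have hle : j ''ᵁ (f' ⁻¹ᵁ V) ≤ f ⁻¹ᵁ (k ''ᵁ V) := by
        refine Set.image_subset_iff.mpr ?_
        change (f' ⁻¹ᵁ V : Set X') ⊆ (j ⁻¹ᵁ (f ⁻¹ᵁ (k ''ᵁ V)) : X'.Opens)
        rw [← Scheme.Hom.comp_preimage, ← w, Scheme.Hom.comp_preimage,
          Scheme.Hom.preimage_image_eq]
      have e1 : (j.appIso (f' ⁻¹ᵁ V)).inv (f'.app V c) =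
          f.appLE (k ''ᵁ V) (j ''ᵁ (f' ⁻¹ᵁ V)) hle ((k.appIso V).inv c) := by
        have e2 : f'.app V ≫ (j.appIso (f' ⁻¹ᵁ V)).inv =
            (k.appIso V).inv ≫ f.appLE (k ''ᵁ V) (j ''ᵁ (f' ⁻¹ᵁ V)) hle := by
          rw [Iso.eq_inv_comp, ← Category.assoc, Iso.comp_inv_eq]
          simp only [Scheme.Hom.appIso_hom', Scheme.Hom.app_eq_appLE, Scheme.Hom.appLE_comp_appLE,
            w]
        exact congr($e2 c)
      rw [e1, app_appLE])

theorem resDer_app (w : f' ≫ k = j ≫ f) {F : X.Modules} (D : Der f F) (U : X'.Opens)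
    (a : Γ(X', U)) :
    (resDer w D).app U a = (show Γ(F, j ''ᵁ U) from D.app (j ''ᵁ U) ((j.appIso U).inv a)) := rfl

/-- The restriction of a universal derivation is universal. -/
theorem isUniversal_resDer (w : f' ≫ k = j ≫ f) {Ω : X.Modules} {d : Der f Ω}
    (hd : IsUniversal d) : IsUniversal (resDer w d) := by
  intro F' D'
  have hinv : ∀ (U : X'.Opens) (a : Γ(X', U)),
      X'.presheaf.map (eqToHom (j.preimage_image_eq U).symm).op
        (j.app (j ''ᵁ U) ((j.appIso U).inv a)) = a := by
    intro U a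
    have : (j.appIso U).inv ≫ j.app (j ''ᵁ U) ≫
      X'.presheaf.map (eqToHom (j.preimage_image_eq U).symm).op = 𝟙 _ := by
      rw [Scheme.Hom.appIso_inv_app_assoc, ← Functor.map_comp, ← X'.presheaf.map_id]; rfl
    exact congr($this a)
  have hinv' : ∀ (U : X.Opens) (s : Γ(X, U)), (j.appIso (j ⁻¹ᵁ U)).inv (j.app U s) =
      X.presheaf.map (homOfLE (j.image_preimage_le U)).op s := by
    intro U s
    have := j.app_appIso_inv U
    exact congr($this s)
  refine ⟨((Scheme.Modules.restrictAdjunction j).homEquiv Ω F').symm (univLift hd (pushDer w D')),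
    ?_, fun β hβ => ?_⟩
  · apply ext_of_app
    intro U a
    rw [postcomp_app, resDer_app]
    have e0 := Adjunction.homEquiv_counit (adj := Scheme.Modules.restrictAdjunction j) (X := Ω)
      (Y := F') (g := univLift hd (pushDer w D'))
    rw [e0]
    change F'.presheaf.map (eqToHom (j.preimage_image_eq U).symm).op
      ((univLift hd (pushDer w D')).app (j ''ᵁ U)
        (d.app (j ''ᵁ U) ((j.appIso U).inv a))) = D'.app U a
    rw [univLift_app]
    change F'.presheaf.map (eqToHom (j.preimage_image_eq U).symm).op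
      (D'.app (j ⁻¹ᵁ (j ''ᵁ U)) (j.app (j ''ᵁ U) ((j.appIso U).inv a))) = D'.app U a
    have e1 := app_map D' (U := j ⁻¹ᵁ (j ''ᵁ U)) (V := U) (j.preimage_image_eq U).symm.le
      (j.app (j ''ᵁ U) ((j.appIso U).inv a))
    refine e1.symm.trans ?_
    congr 1
    exact hinv U a
  · apply ((Scheme.Modules.restrictAdjunction j).homEquiv Ω F').injective
    rw [Equiv.apply_symm_apply]
    apply univ_hom_ext hd
    intro U s
    rw [univLift_app, Adjunction.homEquiv_unit]
    change β.app (j ⁻¹ᵁ U) (Ω.presheaf.map (homOfLE (j.image_preimage_le U)).op (d.app U s)) =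
      D'.app (j ⁻¹ᵁ U) (j.app U s)
    rw [← app_map, ← hinv', ← hβ]
    rfl

end restrict

end K583.DerFunct
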