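import Mathlib.RingTheory.Kaehler.Basic

/-!
# Universal derivations of rings (unbundled form)

`IsAlgUniv φ δ` for a ring homomorphism `φ : A →+* B` and an additive map `δ : B →+ M` to a `B`-module
says that `δ` is an `A`-derivation exhibiting `M` as the module of Kähler differentials.
-/

set_option autoImplicit false
universe u

namespace K583.AlgUniv

variable {A B A' B' : Type u} [CommRing A] [CommRing B] [CommRing A'] [CommRing B']

/-- `δ : B →+ M` is an `A`-derivation. -/
structure IsDer (φ : A →+* B) {M : Type u} [AddCommGroup M] [Module B M] (δ : B →+ M) : Prop where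
  leibniz : ∀ a b, δ (a * b) = a • δ b + b • δ a
  zero : ∀ c : A, δ (φ c) = 0

/-- `δ : B →+ M` is a universal `A`-derivation. -/
structure IsAlgUniv (φ : A →+* B) {M : Type u} [AddCommGroup M] [Module B M] (δ : B →+ M) : Prop
    extends IsDer φ δ where
  lift : ∀ (Q : Type u) [AddCommGroup Q] [Module B Q] (g : B →+ Q), IsDer φ g →
    ∃! g' : M →ₗ[B] Q, ∀ b, g' (δ b) = g b

section

variable {M N Q : Type u} [AddCommGroup M] [Module B M] [AddCommGroup N] [Module B N]
  [AddCommGroup Q] [Module B Q]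

theorem IsDer.comp {φ : A →+* B} {δ : B →+ M} (h : IsDer φ δ) (L : M →ₗ[B] N) :
    IsDer φ (L.toAddMonoidHom.comp δ) where
  leibniz a b := by
    change L (δ (a * b)) = _
    rw [h.leibniz, map_add, map_smul, map_smul]
    rfl
  zero c := by
    change L (δ (φ c)) = 0
    rw [h.zero, map_zero]

theorem IsAlgUniv.hom_ext {φ : A →+* B} {δ : B →+ M} (h : IsAlgUniv φ δ) {L L' : M →ₗ[B] N}
    (e : ∀ b, L (δ b) = L' (δ b)) : L = L' :=
  (h.lift N _ (h.toIsDer.comp L')).unique e (fun _ => rfl)

/-- The bundled derivation. -/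
def IsDer.toDer [Algebra A B] [Module A M] [IsScalarTower A B M] {δ : B →+ M}
    (h : IsDer (algebraMap A B) δ) : Derivation A B M where
  toFun := δ
  map_add' := map_add δ
  map_smul' c b := by
    change δ (c • b) = c • δ b
    rw [Algebra.smul_def, h.leibniz, h.zero, smul_zero, add_zero, algebraMap_smul]
  map_one_eq_zero' := by
    have := h.leibniz 1 1
    simpa using this
  leibniz' a b := h.leibniz a b

theorem isDer_of_derivation [Algebra A B] [Module A M] (D : Derivation A B M) :
    IsDer (algebraMap A B) D.toLinearMap.toAddMonoidHom where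
  leibniz a b := D.leibniz a b
  zero c := D.map_algebraMap c

/-- The Kähler differentials are universal. -/
theorem isAlgUniv_D [Algebra A B] :
    IsAlgUniv (algebraMap A B) (KaehlerDifferential.D A B).toLinearMap.toAddMonoidHom where
  toIsDer := isDer_of_derivation _
  lift Q _ _ g hg := by
    let _ : Module A Q := Module.compHom Q (algebraMap A B)
    have : IsScalarTower A B Q := IsScalarTower.of_algebraMap_smul fun _ _ => rfl
    refine ⟨hg.toDer.liftKaehlerDifferential, fun b => ?_, fun L hL => ?_⟩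
    · exact hg.toDer.liftKaehlerDifferential_comp_D b
    · refine Derivation.liftKaehlerDifferential_unique _ _ ?_
      ext b
      exact (hL b).trans (hg.toDer.liftKaehlerDifferential_comp_D b).symm

theorem isAlgUniv_D' (φ : A →+* B) :
    letI := φ.toAlgebra
    IsAlgUniv φ (KaehlerDifferential.D A B).toLinearMap.toAddMonoidHom :=
  letI := φ.toAlgebra
  isAlgUniv_D

theorem exists_isAlgUniv (φ : A →+* B) : ∃ (M : Type u) (_ : AddCommGroup M) (_ : Module B M)
    (δ : B →+ M), IsAlgUniv φ δ := by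
  let _ := φ.toAlgebra
  exact ⟨Ω[B⁄A], inferInstance, inferInstance, _, isAlgUniv_D⟩

theorem IsAlgUniv.exists_equiv {φ : A →+* B} {δ : B →+ M} (h : IsAlgUniv φ δ) {δ' : B →+ N}
    (h' : IsAlgUniv φ δ') : ∃ e : M ≃ₗ[B] N, ∀ b, e (δ b) = δ' b := by
  obtain ⟨g, hg, -⟩ := h.lift N δ' h'.toIsDer
  obtain ⟨g', hg', -⟩ := h'.lift M δ h.toIsDer
  refine ⟨LinearEquiv.ofLinearMap g g' ?_ ?_, hg⟩
  · exact h'.hom_ext fun x => by simp [hg, hg']
  · exact h.hom_ext fun x => by simp [hg, hg']

theorem IsAlgUniv.bijective {φ : A →+* B} {δ : B →+ M} (h : IsAlgUniv φ δ) {δ' : B →+ N}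
    (h' : IsAlgUniv φ δ') (g : M →ₗ[B] N) (hg : ∀ b, g (δ b) = δ' b) : Function.Bijective g := by
  obtain ⟨e, he⟩ := h.exists_equiv h'
  have : g = e.toLinearMap := h.hom_ext fun x => by simp [hg, he]
  rw [this]
  exact e.bijective

theorem IsAlgUniv.of_equiv {φ : A →+* B} {δ : B →+ M} (h : IsAlgUniv φ δ) (e : M ≃ₗ[B] N)
    {δ' : B →+ N} (he : ∀ b, e (δ b) = δ' b) : IsAlgUniv φ δ' := by
  refine ⟨⟨fun a b => ?_, fun c => ?_⟩, fun T _ _ g hg => ?_⟩
  · rw [← he, h.leibniz, map_add, e.map_smul, e.map_smul, he, he]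
  · rw [← he, h.zero, map_zero]
  · obtain ⟨g', hg', hu⟩ := h.lift T g hg
    refine ⟨g'.comp e.symm.toLinearMap, fun x => ?_, fun g'' h'' => ?_⟩
    · simp [← he, hg']
    · rw [← hu (g''.comp e.toLinearMap) (fun x => by simp [he, h''])]
      ext x
      simp

/-- The comparison with Mathlib's Kähler differentials. -/
theorem IsAlgUniv.exists_kaehler_equiv [Algebra A B] {δ : B →+ M}
    (h : IsAlgUniv (algebraMap A B) δ) :
    ∃ e : Ω[B⁄A] ≃ₗ[B] M, ∀ b, e (KaehlerDifferential.D A B b) = δ b :=
  isAlgUniv_D.exists_equiv h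

theorem isAlgUniv_iff_bijective_lift [Algebra A B] [Module A M] [IsScalarTower A B M]
    (D : Derivation A B M) :
    IsAlgUniv (algebraMap A B) D.toLinearMap.toAddMonoidHom ↔
      Function.Bijective D.liftKaehlerDifferential := by
  constructor
  · intro h
    exact isAlgUniv_D.bijective h _ fun b => D.liftKaehlerDifferential_comp_D b
  · intro h
    exact isAlgUniv_D.of_equiv (LinearEquiv.ofBijective _ h) fun b =>
      D.liftKaehlerDifferential_comp_D b

/-- The module is spanned by the differentials. -/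
theorem IsAlgUniv.span_eq_top {φ : A →+* B} {δ : B →+ M} (h : IsAlgUniv φ δ) :
    Submodule.span B (Set.range δ) = ⊤ := by
  let _ := φ.toAlgebra
  obtain ⟨e, he⟩ := IsAlgUniv.exists_kaehler_equiv (A := A) (B := B) h
  have h1 := KaehlerDifferential.span_range_derivation A B
  have h2 : Set.range δ = e '' (Set.range (KaehlerDifferential.D A B)) := by
    rw [← Set.range_comp]
    congr 1
    ext b
    exact (he b).symm
  rw [h2]
  have h3 := Submodule.map_span (e : Ω[B⁄A] →ₗ[B] M) (Set.range (KaehlerDifferential.D A B))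
  rw [h1, Submodule.map_top] at h3
  rw [← LinearEquiv.coe_coe, ← h3]
  exact LinearEquiv.range e

/-- Transport along isomorphisms of rings; only the image of the base ring matters. -/
theorem IsAlgUniv.transport [Module B' M] {φ : A →+* B} {φ' : A' →+* B'} (σ : B ≃+* B')
    (hσ : ∀ (b : B) (m : M), σ b • m = b • m) {δ : B →+ M} {δ' : B' →+ M}
    (hδ : ∀ b, δ' (σ b) = δ b) (hA : ∀ c, ∃ c', φ' c' = σ (φ c)) (hA' : ∀ c', ∃ c, φ' c' = σ (φ c))
    (h : IsAlgUniv φ δ) : IsAlgUniv φ' δ' := by
  refine ⟨⟨fun a b => ?_, fun c => ?_⟩, fun T _ _ g hg => ?_⟩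
  · obtain ⟨a, rfl⟩ := σ.surjective a
    obtain ⟨b, rfl⟩ := σ.surjective b
    rw [← map_mul, hδ, hδ, hδ, h.leibniz, hσ, hσ]
  · obtain ⟨c', hc'⟩ := hA' c
    rw [hc', hδ, h.zero]
  · let _ : Module B T := Module.compHom T σ.toRingHom
    obtain ⟨g', hg', hu⟩ := h.lift T (g.comp σ.toRingHom.toAddMonoidHom) ⟨fun a b => by
      change g (σ (a * b)) = σ a • g (σ b) + σ b • g (σ a)
      rw [map_mul, hg.leibniz], fun c => by
      change g (σ (φ c)) = 0
      obtain ⟨c', hc'⟩ := hA c
      rw [← hc', hg.zero]⟩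
    refine ⟨{ g' with map_smul' := fun b m => ?_ }, fun b => ?_, fun g'' h'' => ?_⟩
    · obtain ⟨b, rfl⟩ := σ.surjective b
      rw [hσ]
      exact g'.map_smul b m
    · obtain ⟨b, rfl⟩ := σ.surjective b
      rw [hδ]
      exact hg' b
    · let t : M →ₗ[B] T :=
        { g''.toAddMonoidHom with
          map_smul' := fun b m => by
            change g'' (b • m) = σ b • g'' m
            rw [← hσ, map_smul] }
      have := hu t (fun b => by
          change g'' (δ b) = g (σ b)
          rw [← hδ, h''])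
      ext m
      exact LinearMap.congr_fun this m

end

end K583.AlgUniv
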