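import Groth.Agent.OmegaSh.K583.DerFunct
import Groth.Agent.OmegaSh.K583.AlgUniv
import Groth.Agent.CohqA.PullbackQCoh

/-!
# Universal derivations on affine opens

For `f : X ⟶ Y`, `d : O_X → Ω` universal, `U ⊆ X`, `V ⊆ Y` affine with `U ≤ f⁻¹ V`:
* `isAlgUniv_app`: `d.app U : Γ(X, U) → Γ(Ω, U)` is a universal `Γ(Y, V)`-derivation;
* `exists_kaehler_equiv`: `Ω[Γ(X, U)⁄Γ(Y, V)] ≃ Γ(Ω, U)`;
* `isQuasicoherent_of_isUniversal`: `Ω` is quasi-coherent.
-/

set_option autoImplicit false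
universe u

open CategoryTheory CategoryTheory.Limits AlgebraicGeometry TopologicalSpace Opposite OmegaSh

namespace K583.UnivAffine

open K583.DerAffine K583.DerFunct K583.AlgUniv Groth.Agent.CohqA.PullbackAffine

theorem isDer_app_top {X Y : Scheme.{u}} {f : X ⟶ Y} {F : X.Modules} (D : Der f F) :
    IsDer f.appTop.hom (D.app ⊤) :=
  ⟨app_mul D ⊤, fun c => app_base D ⊤ c⟩

/-- In the affine case a derivation into a quasi-coherent module which is universal on global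
sections is universal. -/
theorem isUniversal_of_top {X Y : Scheme.{u}} [IsAffine X] [IsAffine Y] (f : X ⟶ Y)
    (N : X.Modules) [N.IsQuasicoherent] (d : Der f N) (hd : IsAlgUniv f.appTop.hom (d.app ⊤)) :
    IsUniversal d := by
  intro F D
  obtain ⟨L, hL, hu⟩ := hd.lift Γ(F, ⊤) (D.app ⊤) (isDer_app_top D)
  obtain ⟨α, hα, hα'⟩ := existsUnique_hom N F L
  refine ⟨α, ?_, fun β hβ => ?_⟩
  · apply ext_top
    intro a
    rw [postcomp_app]
    exact (hα _).trans (hL a)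
  · apply hα'
    intro x
    let L' : Γ(N, ⊤) →ₗ[Γ(X, ⊤)] Γ(F, ⊤) :=
      { (β.app ⊤).hom with map_smul' := fun r x => Scheme.Modules.Hom.app_smul β r x }
    have : L' = L := hu L' (fun b => by
      subst hβ
      rfl)
    rw [← this]
    rfl

/-- Existence of a universal derivation, affine case. -/
theorem exists_isUniversal_affine {X Y : Scheme.{u}} [IsAffine X] [IsAffine Y] (f : X ⟶ Y) :
    ∃ (N : X.Modules) (_ : N.IsQuasicoherent) (d : Der f N), IsUniversal d ∧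
      IsAlgUniv f.appTop.hom (d.app ⊤) := by
  obtain ⟨M, _, _, δ, hδ⟩ := exists_isAlgUniv (A := Γ(Y, ⊤)) (B := Γ(X, ⊤)) f.appTop.hom
  obtain ⟨N, hN, ⟨e⟩⟩ := exists_qcoh_of_module X M
  have h1 : IsAlgUniv f.appTop.hom (e.toLinearMap.toAddMonoidHom.comp δ) :=
    hδ.of_equiv e (fun _ => rfl)
  obtain ⟨d, hd⟩ := exists_der f N (e.toLinearMap.toAddMonoidHom.comp δ) h1.leibniz h1.zero
  have h2 : IsAlgUniv f.appTop.hom (d.app ⊤) := by rw [hd]; exact h1
  exact ⟨N, hN, d, isUniversal_of_top f N d h2, h2⟩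

/-- In the affine case every universal derivation has quasi-coherent target and is universal on global
sections. -/
theorem isQuasicoherent_and_isAlgUniv_top {X Y : Scheme.{u}} [IsAffine X] [IsAffine Y] {f : X ⟶ Y}
    {Ω : X.Modules} {d : Der f Ω} (hd : IsUniversal d) :
    Ω.IsQuasicoherent ∧ IsAlgUniv f.appTop.hom (d.app ⊤) := by
  obtain ⟨N, hN, d₀, hd₀, h₀⟩ := exists_isUniversal_affine f
  obtain ⟨e, he⟩ := exists_iso_of_isUniversal hd₀ hd
  refine ⟨(SheafOfModules.isQuasicoherent X.ringCatSheaf).prop_of_iso e hN, ?_⟩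
  let ε : Γ(N, ⊤) ≃ₗ[Γ(X, ⊤)] Γ(Ω, ⊤) :=
    { toFun := e.hom.app ⊤
      invFun := e.inv.app ⊤
      map_add' := fun x y => (e.hom.app ⊤).hom.map_add x y
      map_smul' := fun r x => Scheme.Modules.Hom.app_smul e.hom r x
      left_inv := fun x => by
        have := congr(($(e.hom_inv_id)).app ⊤ x)
        exact this
      right_inv := fun x => by
        have := congr(($(e.inv_hom_id)).app ⊤ x)
        exact this }
  exact h₀.of_equiv ε (fun b => he ⊤ b)

section general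

variable {X Y : Scheme.{u}} {f : X ⟶ Y} {Ω : X.Modules} {d : Der f Ω}

theorem isDer_app {F : X.Modules} (D : Der f F) (U : X.Opens) (V : Y.Opens) (e : U ≤ f ⁻¹ᵁ V) :
    IsDer (f.appLE V U e).hom (D.app U) :=
  ⟨app_mul D U, fun c => app_appLE D U V e c⟩

/-- For a square with open immersions from affine schemes, the universal derivation is algebraically
universal on the image. -/
theorem isAlgUniv_image (hd : IsUniversal d) {X' Y' : Scheme.{u}} [IsAffine X'] [IsAffine Y']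
    {f' : X' ⟶ Y'} {j : X' ⟶ X} {k : Y' ⟶ Y} [IsOpenImmersion j] [IsOpenImmersion k]
    (w : f' ≫ k = j ≫ f) (U : X.Opens) (V : Y.Opens) (hU : U = j ''ᵁ ⊤) (hV : V = k ''ᵁ ⊤)
    (e : U ≤ f ⁻¹ᵁ V) : IsAlgUniv (f.appLE V U e).hom (d.app U) := by
  subst hU hV
  have h1 := (isQuasicoherent_and_isAlgUniv_top (isUniversal_resDer w hd)).2
  let σ : Γ(X', ⊤) ≃+* Γ(X, j ''ᵁ ⊤) := (j.appIso ⊤).commRingCatIsoToRingEquiv.symm
  let τ : Γ(Y', ⊤) ≃+* Γ(Y, k ''ᵁ ⊤) := (k.appIso ⊤).commRingCatIsoToRingEquiv.symm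
  have hτ : ∀ c, f.appLE (k ''ᵁ ⊤) (j ''ᵁ ⊤) e (τ c) = σ (f'.appTop c) := by
    intro c
    have e2 : f'.app ⊤ ≫ (j.appIso (f' ⁻¹ᵁ ⊤)).inv =
        (k.appIso ⊤).inv ≫ f.appLE (k ''ᵁ ⊤) (j ''ᵁ (f' ⁻¹ᵁ ⊤)) e := by
      rw [Iso.eq_inv_comp, ← Category.assoc, Iso.comp_inv_eq]
      simp only [Scheme.Hom.appIso_hom', Scheme.Hom.app_eq_appLE, Scheme.Hom.appLE_comp_appLE,
        w]
    exact congr($e2 c).symm
  let _ : Module Γ(X', ⊤) Γ(Ω, j ''ᵁ ⊤) :=
    (inferInstance : Module Γ(X', ⊤) Γ(Ω.restrict j, ⊤))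
  refine IsAlgUniv.transport (M := Γ(Ω, j ''ᵁ ⊤)) (B := Γ(X', ⊤)) (B' := Γ(X, j ''ᵁ ⊤))
    (δ := (resDer w d).app ⊤) (δ' := d.app (j ''ᵁ ⊤)) σ (fun b m => rfl) (fun b => rfl)
    (fun c => ⟨τ c, hτ c⟩) (fun c' => ?_) h1
  obtain ⟨c, rfl⟩ := τ.surjective c'
  exact ⟨c, hτ c⟩

/-- The value of a universal derivation on an affine open is a universal derivation of rings. -/
theorem isAlgUniv_app (hd : IsUniversal d) {U : X.Opens} (hU : IsAffineOpen U) {V : Y.Opens}
    (hV : IsAffineOpen V) (e : U ≤ f ⁻¹ᵁ V) : IsAlgUniv (f.appLE V U e).hom (d.app U) := by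
  have : IsAffine (U : Scheme.{u}) := hU
  have : IsAffine (V : Scheme.{u}) := hV
  exact isAlgUniv_image hd (f' := f.resLE V U e) (j := U.ι) (k := V.ι) (by simp) U V
    U.ι_image_top.symm V.ι_image_top.symm e

/-- Comparison with Mathlib's Kähler differentials. -/
theorem exists_kaehler_equiv (hd : IsUniversal d) {U : X.Opens} (hU : IsAffineOpen U) {V : Y.Opens}
    (hV : IsAffineOpen V) (e : U ≤ f ⁻¹ᵁ V) [Algebra Γ(Y, V) Γ(X, U)]
    (halg : algebraMap Γ(Y, V) Γ(X, U) = (f.appLE V U e).hom) :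
    ∃ ε : Ω[Γ(X, U)⁄Γ(Y, V)] ≃ₗ[Γ(X, U)] Γ(Ω, U),
      ∀ b, ε (KaehlerDifferential.D Γ(Y, V) Γ(X, U) b) = d.app U b := by
  have h := isAlgUniv_app hd hU hV e
  rw [← halg] at h
  exact h.exists_kaehler_equiv

/-- The target of a universal derivation is quasi-coherent. -/
theorem isQuasicoherent_of_isUniversal (hd : IsUniversal d) : Ω.IsQuasicoherent := by
  choose V U hV hU hy e using Groth.Agent.CohqA.PullbackQCoh.exists_affine_pair f
  refine Groth.Agent.CohqB.LocalQC.isQCoh_of_cover U ?_ Ω fun y => ?_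
  · exact top_le_iff.1 fun y _ => Opens.mem_iSup.2 ⟨y, hy y⟩
  · have : IsAffine (U y : Scheme.{u}) := hU y
    have : IsAffine (V y : Scheme.{u}) := hV y
    exact (isQuasicoherent_and_isAlgUniv_top (isUniversal_resDer
      (f' := f.resLE (V y) (U y) (e y)) (j := (U y).ι) (k := (V y).ι) (by simp) hd)).1

end general

end K583.UnivAffine
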