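import Groth.Agent.OmegaSh.K583.AlgUnivBC
import Groth.Agent.OmegaSh.K583.UnivAffine
import Groth.Agent.CohqA.PullbackQCoh
import Groth.Agent.Flat2H.AlgProp

/-!
# The canonical map `h^* Ω_{X/S} → Ω_{X'/S'}` on affine pieces; base change

* `app_pbSec_app`: the values of an `IsDiffCompat` map on `pbSec`;
* `isIso_of_isBC_cover`: `c : h^* M ⟶ N` is an isomorphism if `Γ(M, U) → Γ(N, V)` is a base change on
  enough affine pairs;
* `isIso_of_isPullback`: for a cartesian square `g'^* Ω_{X/S} → Ω_{X'/S'}` is an isomorphism.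
-/

set_option autoImplicit false
universe u

open CategoryTheory AlgebraicGeometry Limits Opposite TopologicalSpace OmegaSh

namespace K583.BaseChange

open Groth.Agent.CohqA.BaseChangeMod Groth.Agent.CohqA.PullbackQCoh K583.AlgUniv K583.AlgUnivBC
  K583.DerAffine K583.UnivAffine

variable {X X' : Scheme.{u}}

/-- `Γ(M, U) → Γ(h^* M, V) → Γ(N, V)`. -/
noncomputable def compSec (h : X' ⟶ X) {M : X.Modules} {N : X'.Modules}
    (c : (Scheme.Modules.pullback h).obj M ⟶ N) (U : X.Opens) (V : X'.Opens) (e : V ≤ h ⁻¹ᵁ U) :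
    Γ(M, U) →+ Γ(N, V) := (c.app V).hom.comp (pbSec h M U V e).hom

theorem compSec_apply (h : X' ⟶ X) {M : X.Modules} {N : X'.Modules}
    (c : (Scheme.Modules.pullback h).obj M ⟶ N) (U : X.Opens) (V : X'.Opens) (e : V ≤ h ⁻¹ᵁ U)
    (m : Γ(M, U)) : compSec h c U V e m = c.app V (pbSec h M U V e m) := rfl

theorem compSec_smul (h : X' ⟶ X) {M : X.Modules} {N : X'.Modules}
    (c : (Scheme.Modules.pullback h).obj M ⟶ N) (U : X.Opens) (V : X'.Opens) (e : V ≤ h ⁻¹ᵁ U)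
    (r : Γ(X, U)) (m : Γ(M, U)) :
    compSec h c U V e (r • m) = (h.appLE U V e).hom r • compSec h c U V e m := by
  rw [compSec_apply, compSec_apply]
  have h1 : pbSec h M U V e (r • m) = (h.appLE U V e).hom r • pbSec h M U V e m :=
    Groth.Agent.CohqA.PullbackAffine.secMap_smul h _ U V e r m
  rw [h1, Scheme.Modules.Hom.app_smul]

theorem isIso_of_isBC_cover (h : X' ⟶ X) {M : X.Modules} {N : X'.Modules} [M.IsQuasicoherent]
    [N.IsQuasicoherent] (c : (Scheme.Modules.pullback h).obj M ⟶ N)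
    (H : ∀ x : X', ∃ (U : X.Opens) (V : X'.Opens) (_ : IsAffineOpen U) (_ : IsAffineOpen V)
      (e : V ≤ h ⁻¹ᵁ U), x ∈ V ∧ IsBC (h.appLE U V e).hom (compSec h c U V e)) : IsIso c := by
  choose U V hU hV e hx hbc using H
  refine isIso_of_bijective_affineCover c V ?_ hV fun y => ?_
  · exact top_le_iff.1 fun y _ => Opens.mem_iSup.2 ⟨y, hx y⟩
  · exact (isBC_pbSec h M (hU y) (hV y) (e y)).bijective_of_isBC (hbc y)
      { (c.app (V y)).hom with map_smul' := fun r x => Scheme.Modules.Hom.app_smul c r x }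
      (fun _ => rfl)

section

variable {Y Y' : Scheme.{u}} {f : X ⟶ Y} {f' : X' ⟶ Y'} {h : X' ⟶ X} {Ω : X.Modules}
  {Ω' : X'.Modules} {d : Der f Ω} {d' : Der f' Ω'} {c : (Scheme.Modules.pullback h).obj Ω ⟶ Ω'}

/-- Values of an `IsDiffCompat` map on pulled-back differentials. -/
theorem compSec_app (hc : IsDiffCompat h d d' c) (U : X.Opens) (V : X'.Opens) (e : V ≤ h ⁻¹ᵁ U)
    (s : Γ(X, U)) : compSec h c U V e (d.app U s) = d'.app V (h.appLE U V e s) := by
  have h1 : pbSec h Ω U V e (d.app U s) =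
      ((Scheme.Modules.pullback h).obj Ω).presheaf.map (homOfLE e).op
        (pullSect h Ω U (d.app U s)) := rfl
  have h2 : h.appLE U V e s = X'.presheaf.map (homOfLE e).op (h.app U s) := rfl
  rw [compSec_apply, h1, h2, app_map, ← hc]
  exact Groth.Agent.CohqA.PullbackSections.app_map c e _

/-- Base change on affine pieces gives an isomorphism `h^* Ω ≅ Ω'`. -/
theorem isIso_of_cover (hd : IsUniversal d) (hd' : IsUniversal d') (hc : IsDiffCompat h d d' c)
    (H : ∀ x : X', ∃ (U : X.Opens) (V : X'.Opens) (_ : IsAffineOpen U) (_ : IsAffineOpen V)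
      (e : V ≤ h ⁻¹ᵁ U), x ∈ V ∧ ∀ (g : Γ(Ω, U) →+ Γ(Ω', V))
        (_ : ∀ (r : Γ(X, U)) (m : Γ(Ω, U)), g (r • m) = (h.appLE U V e).hom r • g m)
        (_ : ∀ x, g (d.app U x) = d'.app V ((h.appLE U V e).hom x)),
        IsBC (h.appLE U V e).hom g) : IsIso c := by
  have : Ω.IsQuasicoherent := isQuasicoherent_of_isUniversal hd
  have : Ω'.IsQuasicoherent := isQuasicoherent_of_isUniversal hd'
  refine isIso_of_isBC_cover h c fun x => ?_
  obtain ⟨U, V, hU, hV, e, hx, hH⟩ := H x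
  exact ⟨U, V, hU, hV, e, hx, hH _ (compSec_smul h c U V e) (fun s => compSec_app hc U V e s)⟩

theorem isIso_of_isPullback {g : Y' ⟶ Y} (hsq : IsPullback h f' f g) (hd : IsUniversal d)
    (hd' : IsUniversal d') (hc : IsDiffCompat h d d' c) : IsIso c := by
  refine isIso_of_cover hd hd' hc fun x => ?_
  obtain ⟨_, ⟨V, hV, rfl⟩, hxV, -⟩ := Y.isBasis_affineOpens.exists_subset_of_mem_open
    (Set.mem_univ (f (h x))) isOpen_univ
  obtain ⟨_, ⟨U, hU, rfl⟩, hxU, e⟩ := X.isBasis_affineOpens.exists_subset_of_mem_open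
    (show h x ∈ (f ⁻¹ᵁ V : Set X) from hxV) (f ⁻¹ᵁ V).isOpen
  have hxV' : g (f' x) ∈ V := by
    rw [← Scheme.Hom.comp_apply, ← hsq.w, Scheme.Hom.comp_apply]
    exact hxV
  obtain ⟨_, ⟨V', hV', rfl⟩, hx', e'⟩ := Y'.isBasis_affineOpens.exists_subset_of_mem_open
    (show f' x ∈ (g ⁻¹ᵁ V : Set Y') from hxV') (g ⁻¹ᵁ V).isOpen
  obtain ⟨hW, hp⟩ := Groth.Agent.Flat2H.AlgProp.isPushout_algebra hsq hV hU hV' e e'
  refine ⟨U, h ⁻¹ᵁ U ⊓ f' ⁻¹ᵁ V', hU, hW, inf_le_left, ⟨hxU, hx'⟩, fun g₁ h1 h2 => ?_⟩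
  exact isBC_of_isPushout hp (isAlgUniv_app hd hU hV e) (isAlgUniv_app hd' hW hV' inf_le_right) g₁
    h1 h2

end

end K583.BaseChange
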