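import Groth.Agent.OmegaSh.K583.ExtPowBC
import Groth.Agent.OmegaSh.K583.BaseChange
import Groth.Agent.Krr.H487.ExtPull
import Groth.Agent.Dual.H366.ExtQCoh
import Groth.Agent.Ega1.QCohOfLoc
import Groth.Agent.Sga67.TensorOps

/-!
# Pull-back of exterior powers of quasi-coherent modules

* `isQCoh_of_isExtPow`: exterior powers of quasi-coherent modules are quasi-coherent;
* `isExtPow_pullback`: for `E` quasi-coherent and `L` an exterior power of `E`, `f^* L` is an exterior power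
  of `f^* E`;
* `isExtPow_of_iso_left`.
-/

set_option autoImplicit false
universe u

open CategoryTheory CategoryTheory.Limits AlgebraicGeometry Opposite TopologicalSpace

namespace K583.ExtPowPull

open Groth.Agent.Sga67.Sec Groth.Agent.Sga67.ExtSheaf Groth.Agent.Krr.H495.ExtSemi
  Groth.Agent.Krr.H495.ExtPre Groth.Agent.Krr.H487.LocBasisPull
  Groth.Agent.CohqA.BaseChangeMod Groth.Agent.CohqA.PullbackQCoh K583.BaseChange

variable {X Y : Scheme.{u}}

theorem phi_res {i : ℕ} {E L : X.Modules} (φ : Phi i E L) (hφ : PhiComp φ) (U V : X.affineOpens)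
    (h : V.1 ≤ U.1) (s : Sec L U.1) : φ V (res L h s) = eres i E h (φ U s) := by
  refine phi_induction φ U (C := fun s => φ V (res L h s) = eres i E h (φ U s)) ?_ ?_ ?_ ?_ s
  · simp only [map_zero]
  · intro x y hx hy
    rw [map_add, map_add, hx, hy, map_add, map_add]
  · intro a x hx
    rw [res_smul, map_smul, map_smul, hx]
    exact ((eres i E h).map_smulₛₗ a (φ U x)).symm
  · intro e
    rw [hφ U V h e, LinearEquiv.apply_symm_apply, LinearEquiv.apply_symm_apply, eres_ιMulti]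

/-- Exterior powers of quasi-coherent modules are quasi-coherent. -/
theorem isQCoh_of_isExtPow {i : ℕ} {E L : X.Modules} (hE : Coh.IsQCoh E)
    (hL : ExtPow.IsExtPow i E L) : Coh.IsQCoh L := by
  obtain ⟨φ, hφ⟩ := exists_phi hL
  refine Groth.Agent.Ega1.QCohOfLoc.isQuasicoherent_of_loc L fun x => ?_
  obtain ⟨W, hW, hxW, -⟩ := exists_isAffineOpen_mem_and_subset (U := (⊤ : X.Opens)) (x := x) trivial
  have hloc := Groth.Agent.Dual.H366.ExtQCoh.locP_extPre i hE
  refine ⟨W, hxW, hW, ⟨fun g s => ?_, fun g t ht => ?_⟩⟩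
  · let U : X.affineOpens := ⟨W, hW⟩
    let V : X.affineOpens := ⟨X.basicOpen g, hW.basicOpen g⟩
    have hVU : V.1 ≤ U.1 := X.basicOpen_le g
    obtain ⟨k, y, hy⟩ := hloc.surj W hW g (toPre i E V.1 (φ V s))
    have hy' : eres i E hVU y = resO X hVU (g ^ k) • φ V s := hy
    refine ⟨k, (φ U).symm y, ?_⟩
    apply (φ V).injective
    have h1 : φ V (res L hVU ((φ U).symm y)) = eres i E hVU y := by
      rw [phi_res φ hφ U V hVU, LinearEquiv.apply_symm_apply]
    refine h1.trans (hy'.trans ?_)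
    rw [map_pow, ← map_smul]
    rfl
  · let U : X.affineOpens := ⟨W, hW⟩
    let V : X.affineOpens := ⟨X.basicOpen g, hW.basicOpen g⟩
    have hVU : V.1 ≤ U.1 := X.basicOpen_le g
    have h1 : eres i E hVU (φ U t) = 0 := by
      rw [← phi_res φ hφ U V hVU]
      exact (congrArg (φ V) ht).trans (map_zero _)
    obtain ⟨k, hk⟩ := hloc.inj W hW g (toPre i E W (φ U t)) h1
    refine ⟨k, ?_⟩
    have h2 : (φ U) ((g ^ k : Γ(X, U.1)) • (show Sec L U.1 from t)) = (φ U) 0 := by
      rw [(φ U).map_smul, map_zero]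
      exact hk
    exact (φ U).injective h2

theorem isExtPow_of_iso_left {a : ℕ} {E E' L : X.Modules} (hE' : Coh.IsQCoh E')
    (e : E ≅ E') (h : ExtPow.IsExtPow a E L) : ExtPow.IsExtPow a E' L := by
  obtain ⟨L', h'⟩ := Groth.Agent.Dual.H366.ExtQCoh.exists_isExtPow a hE'
  obtain ⟨e'⟩ := Groth.Agent.Sga67.TensorOps.nonempty_iso_of_isExtPow e h h'
  exact Groth.Agent.Krr.H487.ExtPull.isExtPow_of_iso h' e'.symm

/-- `f^* L ≅ L'` for exterior powers `L` of `E` and `L'` of `f^* E`, `E` quasi-coherent. -/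
theorem nonempty_pullback_iso (f : Y ⟶ X) {i : ℕ} {E L : X.Modules} (hE : Coh.IsQCoh E)
    (hL : ExtPow.IsExtPow i E L) {L' : Y.Modules}
    (hL' : ExtPow.IsExtPow i ((Scheme.Modules.pullback f).obj E) L') :
    Nonempty ((Scheme.Modules.pullback f).obj L ≅ L') := by
  have hE' : Coh.IsQCoh ((Scheme.Modules.pullback f).obj E) :=
    @isQuasicoherent_pullback _ _ f E hE
  have q1 : L.IsQuasicoherent := isQCoh_of_isExtPow hE hL
  have q2 : L'.IsQuasicoherent := isQCoh_of_isExtPow hE' hL'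
  have q3 : E.IsQuasicoherent := hE
  obtain ⟨φ, hφ⟩ := exists_phi hL
  obtain ⟨φ', hφ'⟩ := exists_phi hL'
  obtain ⟨g, hg⟩ := Groth.Agent.Krr.H487.ExtPull.exists_hom f φ hφ φ' hφ'
  have : IsIso (adj f g) := by
    refine isIso_of_isBC_cover f (adj f g) fun y => ?_
    obtain ⟨U₀, V₀, hU, hV, hy, e⟩ := exists_affine_pair f y
    let U : X.affineOpens := ⟨U₀, hU⟩
    let V : Y.affineOpens := ⟨V₀, hV⟩
    have e' : V.1 ≤ f ⁻¹ᵁ U.1 := e
    refine ⟨U₀, V₀, hU, hV, e, hy, ?_⟩
    let G₀ : Γ(L, U.1) →+ Γ(L', V.1) := compSec f (adj f g) U.1 V.1 e'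
    let G : ↥(⋀[Γ(X, U.1)]^i (Sec E U.1)) →+
        ↥(⋀[Γ(Y, V.1)]^i (Sec ((Scheme.Modules.pullback f).obj E) V.1)) :=
      (φ' V).toLinearMap.toAddMonoidHom.comp (G₀.comp (φ U).symm.toLinearMap.toAddMonoidHom)
    have hG0 : ∀ x, G x = φ' V (G₀ ((φ U).symm x)) := fun _ => rfl
    have hs : ∀ (a : Γ(X, U.1)) (x : ↥(⋀[Γ(X, U.1)]^i (Sec E U.1))),
        G (a • x) = (f.appLE U.1 V.1 e').hom a • G x := by
      intro a x
      rw [hG0, hG0, (φ U).symm.map_smul]
      have h1 : G₀ (a • (φ U).symm x) = (f.appLE U.1 V.1 e').hom a • G₀ ((φ U).symm x) :=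
        compSec_smul f (adj f g) U.1 V.1 e' a _
      rw [h1]
      exact (φ' V).map_smul _ _
    have hm : ∀ m : Fin i → Sec E U.1, G (exteriorPower.ιMulti Γ(X, U.1) i m) =
        exteriorPower.ιMulti Γ(Y, V.1) i (fun j => (pbSec f E U.1 V.1 e').hom (m j)) := by
      intro m
      rw [hG0]
      have h2 : G₀ ((φ U).symm (exteriorPower.ιMulti _ i m)) =
          (φ' V).symm (exteriorPower.ιMulti _ i (fun j => res _ e' (pbS f E (m j)))) := by
        rw [← hg U m V e']
        have h3 : G₀ ((φ U).symm (exteriorPower.ιMulti _ i m)) =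
          appS (adj f g) V.1 (res _ e' (pbS f L ((φ U).symm (exteriorPower.ιMulti _ i m)))) := rfl
        rw [h3, appS_res, adj_pbS]
      rw [h2, LinearEquiv.apply_symm_apply]
      rfl
    have hbc : IsBC (f.appLE U.1 V.1 e').hom G :=
      K583.ExtPowBC.isBC_ext (isBC_pbSec f E hU hV e) i G hs hm
    have h4 : IsBC (f.appLE U.1 V.1 e').hom ((φ' V).toLinearMap.toAddMonoidHom.comp G₀) :=
      K583.ExtPowBC.isBC_comp_equiv hbc (φ U) _ (fun x => by
        rw [hG0, LinearEquiv.symm_apply_apply]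
        rfl)
    exact h4.of_equiv (φ' V).symm (fun x => (φ' V).symm_apply_apply (G₀ x))
  exact ⟨asIso (adj f g)⟩

/-- Pull-back commutes with exterior powers of quasi-coherent modules. -/
theorem isExtPow_pullback (f : Y ⟶ X) {i : ℕ} {E L : X.Modules} (hE : Coh.IsQCoh E)
    (hL : ExtPow.IsExtPow i E L) :
    ExtPow.IsExtPow i ((Scheme.Modules.pullback f).obj E) ((Scheme.Modules.pullback f).obj L) := by
  have hE' : Coh.IsQCoh ((Scheme.Modules.pullback f).obj E) :=
    @isQuasicoherent_pullback _ _ f E hE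
  obtain ⟨L', hL'⟩ := Groth.Agent.Dual.H366.ExtQCoh.exists_isExtPow i hE'
  obtain ⟨e⟩ := nonempty_pullback_iso f hE hL hL'
  exact Groth.Agent.Krr.H487.ExtPull.isExtPow_of_iso hL' e.symm

end K583.ExtPowPull
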