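import Groth.Agent.OmegaSh.K583.UnivAffine
import Groth.Agent.CohqA.FinSec
import Mathlib.AlgebraicGeometry.Morphisms.FinitePresentation
import Mathlib.RingTheory.Extension.Cotangent.Basic
import Groth.Prelude.Def_CohB1

/-!
# Finiteness of the sheaf of differentials

For a receptacle `Ω` of a universal derivation of `f`: `isFT` (`f` locally of finite type), `isFP`
(`f` locally of finite presentation), and the corresponding statements for sections over affine opens.
-/

set_option autoImplicit false
universe u

open CategoryTheory AlgebraicGeometry OmegaSh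

namespace K583.Finite

open K583.UnivAffine

variable {X Y : Scheme.{u}} {f : X ⟶ Y} {Ω : X.Modules} {d : Der f Ω}

theorem finite_app [LocallyOfFiniteType f] (hd : IsUniversal d) {U : X.Opens} (hU : IsAffineOpen U)
    {V : Y.Opens} (hV : IsAffineOpen V) (e : U ≤ f ⁻¹ᵁ V) : Module.Finite Γ(X, U) Γ(Ω, U) := by
  let _ := (f.appLE V U e).hom.toAlgebra
  have : Algebra.FiniteType Γ(Y, V) Γ(X, U) := LocallyOfFiniteType.finiteType_appLE f hV hU e
  obtain ⟨ε, -⟩ := K583.UnivAffine.exists_kaehler_equiv hd hU hV e rfl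
  exact Module.Finite.equiv ε

theorem finitePresentation_app [LocallyOfFinitePresentation f] (hd : IsUniversal d) {U : X.Opens}
    (hU : IsAffineOpen U) {V : Y.Opens} (hV : IsAffineOpen V) (e : U ≤ f ⁻¹ᵁ V) :
    Module.FinitePresentation Γ(X, U) Γ(Ω, U) := by
  let _ := (f.appLE V U e).hom.toAlgebra
  have : Algebra.FinitePresentation Γ(Y, V) Γ(X, U) :=
    LocallyOfFinitePresentation.finitePresentation_appLE f hV hU e
  obtain ⟨ε, -⟩ := K583.UnivAffine.exists_kaehler_equiv hd hU hV e rfl
  exact Module.FinitePresentation.of_equiv ε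

theorem isFT [LocallyOfFiniteType f] (hd : IsUniversal d) : CohB1.IsFT Ω := by
  refine Groth.Agent.CohqA.FinSec.isFT_of_finite (isQuasicoherent_of_isUniversal hd) fun x => ?_
  obtain ⟨V, U, hV, hU, hx, e⟩ := Groth.Agent.CohqA.PullbackQCoh.exists_affine_pair f x
  exact ⟨U, hU, hx, finite_app hd hU hV e⟩

theorem isFP [LocallyOfFinitePresentation f] (hd : IsUniversal d) : CohB1.IsFP Ω := by
  refine Groth.Agent.CohqA.FinSec.isFP_of_finitePresentation (isQuasicoherent_of_isUniversal hd)
    fun x => ?_
  obtain ⟨V, U, hV, hU, hx, e⟩ := Groth.Agent.CohqA.PullbackQCoh.exists_affine_pair f x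
  exact ⟨U, hU, hx, finitePresentation_app hd hU hV e⟩

end K583.Finite
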