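import Mathlib.RingTheory.Etale.Kaehler

/-!
# Extension of derivations to localizations (unbundled form)

* `der_unique`: an additive Leibniz map on a localization is determined by its restriction;
* `exists_der`: an additive Leibniz map extends to the localization.
-/

set_option autoImplicit false
universe u v w

open scoped TensorProduct

namespace K583.DerExt

variable {B T N : Type*} [CommRing B] [CommRing T] [Algebra B T] [AddCommGroup N] [Module T N]

theorem der_one (δ : T →+ N) (h : ∀ a b, δ (a * b) = a • δ b + b • δ a) : δ 1 = 0 := by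
  have := h 1 1
  simpa using this

/-- Uniqueness of the extension of a derivation to a localization. -/
theorem der_unique (M : Submonoid B) [IsLocalization M T] (δ₁ δ₂ : T →+ N)
    (h₁ : ∀ a b, δ₁ (a * b) = a • δ₁ b + b • δ₁ a)
    (h₂ : ∀ a b, δ₂ (a * b) = a • δ₂ b + b • δ₂ a)
    (h : ∀ b : B, δ₁ (algebraMap B T b) = δ₂ (algebraMap B T b)) : δ₁ = δ₂ := by
  ext t
  obtain ⟨⟨b, m⟩, hb⟩ := IsLocalization.surj M t
  have hu : IsUnit (algebraMap B T m) := IsLocalization.map_units T m
  dsimp only at hb
  have e1 := h₁ t (algebraMap B T m)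
  have e2 := h₂ t (algebraMap B T m)
  rw [hb, h] at e1
  rw [hb] at e2
  rw [e1, h m] at e2
  have e3 : algebraMap B T m • δ₁ t = algebraMap B T m • δ₂ t := by
    have := e2
    rwa [add_right_inj] at this
  obtain ⟨u, hu⟩ := hu
  rw [← hu] at e3
  calc δ₁ t = (↑u⁻¹ : T) • (u : T) • δ₁ t := by rw [smul_smul, Units.inv_mul, one_smul]
    _ = (↑u⁻¹ : T) • (u : T) • δ₂ t := by rw [e3]
    _ = δ₂ t := by rw [smul_smul, Units.inv_mul, one_smul]

/-- Existence of the extension of a derivation to a localization. -/
theorem exists_der (M : Submonoid B) [IsLocalization M T] (δ : B →+ N)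
    (hδ : ∀ a b, δ (a * b) = algebraMap B T a • δ b + algebraMap B T b • δ a) :
    ∃ δ' : T →+ N, (∀ a b, δ' (a * b) = a • δ' b + b • δ' a) ∧
      ∀ b : B, δ' (algebraMap B T b) = δ b := by
  let _ : Module B N := Module.compHom N (algebraMap B T)
  have : IsScalarTower B T N := IsScalarTower.of_algebraMap_smul fun _ _ => rfl
  let D : Derivation ℤ B N :=
    { toFun := δ
      map_add' := map_add δ
      map_smul' := fun n b => by
        rw [map_zsmul]
        rfl
      map_one_eq_zero' := by
        have := hδ 1 1
        simpa using this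
      leibniz' := fun a b => hδ a b }
  have : Algebra.FormallyEtale B T := Algebra.FormallyEtale.of_isLocalization (Rₘ := T) M
  let e := KaehlerDifferential.tensorKaehlerEquivOfFormallyEtale ℤ B T
  let L : T ⊗[B] Ω[B⁄ℤ] →ₗ[T] N := TensorProduct.AlgebraTensorModule.lift
    { toFun := fun t => t • D.liftKaehlerDifferential
      map_add' := fun a b => by rw [add_smul]
      map_smul' := fun a b => by rw [smul_eq_mul, mul_smul]; rfl }
  let D' : Derivation ℤ T N := L.compDer (e.symm.toLinearMap.compDer (KaehlerDifferential.D ℤ T))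
  refine ⟨D'.toLinearMap.toAddMonoidHom, fun a b => D'.leibniz a b, fun b => ?_⟩
  change L (e.symm (KaehlerDifferential.D ℤ T (algebraMap B T b))) = δ b
  rw [KaehlerDifferential.tensorKaehlerEquivOfFormallyEtale_symm_D_algebraMap]
  change (1 : T) • D.liftKaehlerDifferential (KaehlerDifferential.D ℤ B b) = δ b
  rw [one_smul, Derivation.liftKaehlerDifferential_comp_D]
  rfl

omit [Module T N] in
/-- A derivation into a module over a further ring vanishing on `B` vanishes on the localization. -/
theorem der_eq_zero {T' : Type*} [CommRing T'] [Module T' N] (M : Submonoid B) [IsLocalization M T]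
    (φ : T →+* T') (δ : T →+ N) (h : ∀ a b, δ (a * b) = φ a • δ b + φ b • δ a)
    (h0 : ∀ b : B, δ (algebraMap B T b) = 0) (t : T) : δ t = 0 := by
  obtain ⟨⟨b, m⟩, hb⟩ := IsLocalization.surj M t
  have hu : IsUnit (algebraMap B T m) := IsLocalization.map_units T m
  dsimp only at hb
  have e1 := h t (algebraMap B T m)
  rw [hb, h0, h0, smul_zero, zero_add] at e1
  obtain ⟨u, hu⟩ := hu.map φ
  rw [← hu] at e1
  calc δ t = (↑u⁻¹ : T') • (u : T') • δ t := by rw [smul_smul, Units.inv_mul, one_smul]
    _ = 0 := by rw [← e1, smul_zero]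

end K583.DerExt
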