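import Groth.Prelude.Def_Omega3
import Groth.Agent.OmegaSh.K583.DerExt

/-!
# Derivations of the structure sheaf: locality and the affine case

* `Der.ext_of_app`, `app_map`, `app_mul`, `app_base`: calculus of `OmegaSh.Der`;
* `ext_of_locally`: two derivations which agree on sections over a basis agree;
* `ext_top`: on an affine scheme a derivation is determined by global sections;
* `exists_der`: on affine schemes every derivation of global sections extends.
-/

set_option autoImplicit false
universe u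

open CategoryTheory CategoryTheory.Limits AlgebraicGeometry TopologicalSpace Opposite OmegaSh

namespace K583.DerAffine

variable {X Y : Scheme.{u}} {f : X ⟶ Y} {F : X.Modules}

/-- Separatedness of sheaves of modules. -/
theorem eq_of_locally (F : X.Modules) {U : X.Opens} {s t : Γ(F, U)}
    (H : ∀ x ∈ U, ∃ (V : X.Opens) (h : V ≤ U), x ∈ V ∧
      F.presheaf.map (homOfLE h).op s = F.presheaf.map (homOfLE h).op t) : s = t := by
  choose V hV hx e using H
  refine TopCat.Sheaf.eq_of_locally_eq' ⟨F.presheaf, F.isSheaf⟩ (fun x : U => V x.1 x.2) U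
    (fun x => homOfLE (hV x.1 x.2)) ?_ s t (fun x => e x.1 x.2)
  intro x hx'
  exact Opens.mem_iSup.mpr ⟨⟨x, hx'⟩, hx x hx'⟩

theorem app_mul (D : Der f F) (U : X.Opens) (a b : Γ(X, U)) :
    D.app U (a * b) = a • D.app U b + b • D.app U a :=
  D.d_mul (X := op U) a b

theorem app_map (D : Der f F) {U V : X.Opens} (h : V ≤ U) (a : Γ(X, U)) :
    D.app V (X.presheaf.map (homOfLE h).op a) = F.presheaf.map (homOfLE h).op (D.app U a) :=
  D.d_map (homOfLE h).op a

theorem app_base (D : Der f F) (V : Y.Opens) (c : Γ(Y, V)) : D.app (f ⁻¹ᵁ V) (f.app V c) = 0 :=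
  D.d_app (X := op V) c

theorem app_appLE (D : Der f F) (U : X.Opens) (V : Y.Opens) (e : U ≤ f ⁻¹ᵁ V) (c : Γ(Y, V)) :
    D.app U (f.appLE V U e c) = 0 := by
  have : f.appLE V U e c = X.presheaf.map (homOfLE e).op (f.app V c) := rfl
  rw [this, app_map, app_base, map_zero]

theorem ext_of_app {D D' : Der f F} (h : ∀ (U : X.Opens) (a : Γ(X, U)), D.app U a = D'.app U a) :
    D = D' := by
  apply PresheafOfModules.Derivation.ext
  funext ⟨U⟩
  ext a
  exact h U a

/-- Two derivations that agree on a neighbourhood basis agree. -/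
theorem ext_of_locally {D D' : Der f F}
    (h : ∀ (x : X) (U : X.Opens), x ∈ U → ∃ V : X.Opens, V ≤ U ∧ x ∈ V ∧
      ∀ a : Γ(X, V), D.app V a = D'.app V a) : D = D' := by
  apply ext_of_app
  intro U a
  apply eq_of_locally
  intro x hx
  obtain ⟨V, hV, hxV, e⟩ := h x U hx
  exact ⟨V, hV, hxV, by rw [← app_map, ← app_map, e]⟩

theorem postcomp_app {G : X.Modules} (D : Der f F) (α : F ⟶ G) (U : X.Opens) (a : Γ(X, U)) :
    Der.app (F := G) (D.postcomp α.val) U a = α.app U (D.app U a) := rfl

/-- Constructor of derivations. -/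
noncomputable def mkDer (f : X ⟶ Y) (F : X.Modules) (d : ∀ U : X.Opens, Γ(X, U) →+ Γ(F, U))
    (d_mul : ∀ U a b, d U (a * b) = a • d U b + b • d U a)
    (d_map : ∀ (U V : X.Opens) (h : V ≤ U) (a : Γ(X, U)),
      d V (X.presheaf.map (homOfLE h).op a) = F.presheaf.map (homOfLE h).op (d U a))
    (d_app : ∀ (V : Y.Opens) (c : Γ(Y, V)), d (f ⁻¹ᵁ V) (f.app V c) = 0) : Der f F where
  d {U} := d U.unop
  d_mul {U} a b := d_mul U.unop a b
  d_map {_ _} i s := d_map _ _ i.unop.le s
  d_app {V} c := d_app V.unop c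

theorem mkDer_app (d : ∀ U : X.Opens, Γ(X, U) →+ Γ(F, U))
    (d_mul : ∀ U a b, d U (a * b) = a • d U b + b • d U a)
    (d_map : ∀ (U V : X.Opens) (h : V ≤ U) (a : Γ(X, U)),
      d V (X.presheaf.map (homOfLE h).op a) = F.presheaf.map (homOfLE h).op (d U a))
    (d_app : ∀ (V : Y.Opens) (c : Γ(Y, V)), d (f ⁻¹ᵁ V) (f.app V c) = 0) (U : X.Opens)
    (a : Γ(X, U)) : (mkDer f F d d_mul d_map d_app).app U a = d U a := rfl

/-- A system of additive Leibniz maps on a basis of opens extends to all opens. -/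
theorem exists_of_basis {ι : Type*} {B : ι → X.Opens} (hB : Opens.IsBasis (Set.range B))
    (F : X.Modules) (φ : ∀ i, Γ(X, B i) →+ Γ(F, B i))
    (hφ : ∀ i j (h : B j ≤ B i) (a : Γ(X, B i)), φ j (X.presheaf.map (homOfLE h).op a) =
      F.presheaf.map (homOfLE h).op (φ i a))
    (hmul : ∀ i a b, φ i (a * b) = a • φ i b + b • φ i a) :
    ∃ d : ∀ U : X.Opens, Γ(X, U) →+ Γ(F, U),
      (∀ U a b, d U (a * b) = a • d U b + b • d U a) ∧
      (∀ (U V : X.Opens) (h : V ≤ U) (a : Γ(X, U)),
        d V (X.presheaf.map (homOfLE h).op a) = F.presheaf.map (homOfLE h).op (d U a)) ∧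
      ∀ i a, d (B i) a = φ i a := by
  let P : TopCat.Presheaf Ab.{u} X := X.presheaf ⋙ forget₂ CommRingCat RingCat ⋙
    forget₂ RingCat AddCommGrpCat
  let α : (inducedFunctor B).op ⋙ P ⟶ (inducedFunctor B).op ⋙ F.presheaf :=
    { app := fun i => AddCommGrpCat.ofHom (φ i.unop)
      naturality := fun i j f => by
        ext s
        exact hφ i.unop j.unop (leOfHom f.unop.hom) s }
  let β : P ⟶ F.presheaf :=
    TopCat.Sheaf.restrictHomEquivHom P ⟨F.presheaf, F.isSheaf⟩ hB α
  have hβ : ∀ i (s : Γ(X, B i)), β.app (op (B i)) s = φ i s := by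
    intro i s
    have := TopCat.Sheaf.extend_hom_app P ⟨F.presheaf, F.isSheaf⟩ hB α i
    change (β.app (op (B i))) s = (α.app (op i)) s
    exact congr($this s)
  let d : ∀ U : X.Opens, Γ(X, U) →+ Γ(F, U) := fun U => (β.app (op U)).hom
  have hnat : ∀ (U V : X.Opens) (h : V ≤ U) (s : Γ(X, U)),
      d V (X.presheaf.map (homOfLE h).op s) = F.presheaf.map (homOfLE h).op (d U s) := by
    intro U V h s
    exact NatTrans.naturality_apply β _ _
  have hB' : ∀ i a, d (B i) a = φ i a := fun i a => hβ i a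
  refine ⟨d, ?_, hnat, hB'⟩
  intro U a b
  apply eq_of_locally
  intro x hx
  obtain ⟨V, ⟨i, rfl⟩, hxV, hV⟩ := Opens.isBasis_iff_nbhd.mp hB hx
  refine ⟨B i, hV, hxV, ?_⟩
  rw [← hnat, map_mul, hB', hmul, map_add, Scheme.Modules.map_smul, Scheme.Modules.map_smul,
    ← hnat, ← hnat, hB', hB']

section affine

variable [IsAffine X]

/-- On an affine scheme derivations are determined by their global values. -/
theorem ext_top {D D' : Der f F} (h : ∀ a : Γ(X, ⊤), D.app ⊤ a = D'.app ⊤ a) : D = D' := by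
  apply ext_of_locally
  intro x U hx
  obtain ⟨V, ⟨g, rfl⟩, hxV, hV⟩ := Opens.isBasis_iff_nbhd.mp (isBasis_basicOpen X) hx
  refine ⟨X.basicOpen g, hV, hxV, ?_⟩
  have hloc := (isAffineOpen_top X).isLocalization_basicOpen g
  have := DerExt.der_unique (B := Γ(X, ⊤)) (Submonoid.powers g) (D.app (X.basicOpen g))
    (D'.app (X.basicOpen g)) (app_mul D _) (app_mul D' _) (fun b => by
      have e : algebraMap Γ(X, ⊤) Γ(X, X.basicOpen g) b =
        X.presheaf.map (homOfLE le_top).op b := rfl
      rw [e, app_map, app_map, h])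
  intro a
  rw [this]

/-- On affine schemes every derivation of the ring of global sections into the global sections of a
sheaf of modules extends to a derivation of the structure sheaf. -/
theorem exists_der [IsAffine Y] (f : X ⟶ Y) (F : X.Modules) (δ : Γ(X, ⊤) →+ Γ(F, ⊤))
    (hδ : ∀ a b : Γ(X, ⊤), δ (a * b) = a • δ b + b • δ a)
    (h0 : ∀ c : Γ(Y, ⊤), δ (f.appTop c) = 0) : ∃ D : Der f F, D.app ⊤ = δ := by
  have hloc : ∀ g : Γ(X, ⊤), IsLocalization.Away g Γ(X, X.basicOpen g) := fun g =>
    (isAffineOpen_top X).isLocalization_basicOpen g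
  have key : ∀ g : Γ(X, ⊤), ∃ δ' : Γ(X, X.basicOpen g) →+ Γ(F, X.basicOpen g),
      (∀ a b, δ' (a * b) = a • δ' b + b • δ' a) ∧
      ∀ b : Γ(X, ⊤), δ' (algebraMap Γ(X, ⊤) Γ(X, X.basicOpen g) b) =
        F.presheaf.map (homOfLE le_top).op (δ b) := by
    intro g
    have := hloc g
    refine DerExt.exists_der (B := Γ(X, ⊤)) (Submonoid.powers g)
      ((F.presheaf.map (homOfLE (le_top (a := X.basicOpen g))).op).hom.comp δ) ?_
    intro a b
    change F.presheaf.map _ (δ (a * b)) = _
    rw [hδ, map_add, Scheme.Modules.map_smul, Scheme.Modules.map_smul]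
    rfl
  choose φ hφmul hφ using key
  have hcomp : ∀ (i j : Γ(X, ⊤)) (h : X.basicOpen j ≤ X.basicOpen i) (a : Γ(X, X.basicOpen i)),
      φ j (X.presheaf.map (homOfLE h).op a) = F.presheaf.map (homOfLE h).op (φ i a) := by
    intro i j h a
    have := hloc i
    let _ : Module Γ(X, X.basicOpen i) Γ(F, X.basicOpen j) :=
      Module.compHom _ (X.presheaf.map (homOfLE h).op).hom
    have e := DerExt.der_unique (B := Γ(X, ⊤)) (N := Γ(F, X.basicOpen j)) (Submonoid.powers i)
      ((φ j).comp (X.presheaf.map (homOfLE h).op).hom.toAddMonoidHom)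
      ((F.presheaf.map (homOfLE h).op).hom.comp (φ i)) (by
        intro a b
        change φ j (X.presheaf.map (homOfLE h).op (a * b)) = _
        rw [map_mul, hφmul]
        rfl) (by
        intro a b
        change F.presheaf.map (homOfLE h).op (φ i (a * b)) = _
        rw [hφmul, map_add, Scheme.Modules.map_smul, Scheme.Modules.map_smul]
        rfl) (by
        intro b
        change φ j (X.presheaf.map (homOfLE h).op (algebraMap Γ(X, ⊤) Γ(X, X.basicOpen i) b)) =
          F.presheaf.map (homOfLE h).op (φ i (algebraMap Γ(X, ⊤) Γ(X, X.basicOpen i) b))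
        rw [hφ]
        have e1 : X.presheaf.map (homOfLE h).op (algebraMap Γ(X, ⊤) Γ(X, X.basicOpen i) b) =
            algebraMap Γ(X, ⊤) Γ(X, X.basicOpen j) b := by
          change X.presheaf.map (homOfLE h).op (X.presheaf.map (homOfLE le_top).op b) =
            X.presheaf.map (homOfLE le_top).op b
          rw [← ConcreteCategory.comp_apply, ← Functor.map_comp]
          rfl
        rw [e1, hφ, ← ConcreteCategory.comp_apply, ← Functor.map_comp]
        rfl)
    exact DFunLike.congr_fun e a
  obtain ⟨d, hmul, hmap, hd⟩ := exists_of_basis (isBasis_basicOpen X) F φ hcomp hφmul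
  have htop : ∀ (U : X.Opens) (a : Γ(X, ⊤)), d U (X.presheaf.map (homOfLE le_top).op a) =
      F.presheaf.map (homOfLE le_top).op (δ a) := by
    intro U a
    have h1 : ∀ (g : Γ(X, ⊤)), d (X.basicOpen g) (X.presheaf.map (homOfLE le_top).op a) =
      F.presheaf.map (homOfLE le_top).op (δ a) := fun g => (hd g _).trans (hφ g a)
    apply eq_of_locally
    intro x hx
    obtain ⟨V, ⟨g, rfl⟩, hxV, hV⟩ := Opens.isBasis_iff_nbhd.mp (isBasis_basicOpen X) hx
    refine ⟨X.basicOpen g, hV, hxV, ?_⟩
    rw [← hmap, ← ConcreteCategory.comp_apply, ← Functor.map_comp, ← ConcreteCategory.comp_apply,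
      ← Functor.map_comp]
    exact h1 g
  refine ⟨mkDer f F d hmul hmap ?_, ?_⟩
  · intro V c
    apply eq_of_locally
    intro x hx
    obtain ⟨W, ⟨t, rfl⟩, hxW, hW⟩ := Opens.isBasis_iff_nbhd.mp (isBasis_basicOpen Y)
      (show f x ∈ V from hx)
    refine ⟨f ⁻¹ᵁ (Y.basicOpen t), f.preimage_mono hW, hxW, ?_⟩
    rw [map_zero, ← hmap]
    have e1 : X.presheaf.map (homOfLE (f.preimage_mono hW)).op (f.app V c) =
        f.app (Y.basicOpen t) (Y.presheaf.map (homOfLE hW).op c) := by
      have := f.naturality (homOfLE hW).op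
      exact congr($this c).symm
    rw [e1]
    have hlocY : IsLocalization.Away t Γ(Y, Y.basicOpen t) :=
      (isAffineOpen_top Y).isLocalization_basicOpen t
    exact DerExt.der_eq_zero (B := Γ(Y, ⊤)) (T := Γ(Y, Y.basicOpen t))
      (T' := Γ(X, f ⁻¹ᵁ (Y.basicOpen t))) (Submonoid.powers t) (f.app (Y.basicOpen t)).hom
      ((d (f ⁻¹ᵁ (Y.basicOpen t))).comp (f.app (Y.basicOpen t)).hom.toAddMonoidHom)
      (by
        intro a b
        change d _ (f.app (Y.basicOpen t) (a * b)) = _
        rw [map_mul, hmul]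
        rfl)
      (by
        intro b
        change d _ (f.app (Y.basicOpen t) (Y.presheaf.map (homOfLE le_top).op b)) = 0
        have e2 : f.app (Y.basicOpen t) (Y.presheaf.map (homOfLE le_top).op b) =
          X.presheaf.map (homOfLE le_top).op (f.appTop b) := by
          have := f.naturality (homOfLE (le_top (a := Y.basicOpen t))).op
          exact congr($this b)
        rw [e2, htop, h0, map_zero]) _
  · ext a
    change d ⊤ a = δ a
    have := htop ⊤ a
    have e1 : (homOfLE (le_top (a := (⊤ : X.Opens)))).op = 𝟙 _ := rfl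
    rw [e1, CategoryTheory.Functor.map_id, CategoryTheory.Functor.map_id] at this
    exact this

end affine

end K583.DerAffine
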