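import Groth.Agent.OmegaSh.K583.DerFunct
import Mathlib.Algebra.Category.Ring.Instances
import Mathlib.Algebra.Category.ModuleCat.Presheaf.Sheafification

/-!
# Existence of universal derivations

`exists_isUniversal f`: every morphism of schemes `f : X ⟶ Y` has a universal `Y`-derivation
`O_X → Ω`, obtained by sheafifying the presheaf of Kähler differentials.
-/

set_option autoImplicit false
universe u

open CategoryTheory CategoryTheory.Limits AlgebraicGeometry TopologicalSpace Opposite OmegaSh

namespace K583.ExistsUniv

open K583.DerAffine K583.DerFunct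

variable {X Y : Scheme.{u}} (f : X ⟶ Y)

/-- The subring of functions on `U` generated by the functions coming from `Y`. -/
noncomputable def baseSubring (U : X.Opens) : Subring Γ(X, U) :=
  ⨆ V : {V : Y.Opens // U ≤ f ⁻¹ᵁ V}, (f.appLE V.1 U V.2).hom.range

theorem appLE_mem (U : X.Opens) (V : Y.Opens) (e : U ≤ f ⁻¹ᵁ V) (c : Γ(Y, V)) :
    f.appLE V U e c ∈ baseSubring f U :=
  (le_iSup (fun V : {V : Y.Opens // U ≤ f ⁻¹ᵁ V} => (f.appLE V.1 U V.2).hom.range) ⟨V, e⟩)
    ⟨c, rfl⟩

theorem baseSubring_le (U : X.Opens) (S : Subring Γ(X, U))
    (h : ∀ (V : Y.Opens) (e : U ≤ f ⁻¹ᵁ V) (c : Γ(Y, V)), f.appLE V U e c ∈ S) :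
    baseSubring f U ≤ S := by
  refine iSup_le ?_
  rintro ⟨V, e⟩ _ ⟨c, rfl⟩
  exact h V e c

theorem map_mem {U V : (Opens X)ᵒᵖ} (i : U ⟶ V) (a : Γ(X, U.unop))
    (ha : a ∈ baseSubring f U.unop) : X.presheaf.map i a ∈ baseSubring f V.unop := by
  have h : baseSubring f U.unop ≤ (baseSubring f V.unop).comap (X.presheaf.map i).hom := by
    apply baseSubring_le
    intro W e c
    change X.presheaf.map i (f.appLE W U.unop e c) ∈ baseSubring f V.unop
    have : X.presheaf.map i (f.appLE W U.unop e c) =
        f.appLE W V.unop (i.unop.le.trans e) c := by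
      rw [← ConcreteCategory.comp_apply]
      have := f.appLE_map (U := W) e i
      exact congr($this c)
    rw [this]
    exact appLE_mem f _ _ _ _
  exact h ha

/-- The presheaf of subrings of functions coming from the base. -/
noncomputable def basePresheaf : (Opens X)ᵒᵖ ⥤ CommRingCat.{u} where
  obj U := CommRingCat.of (baseSubring f U.unop)
  map {U V} i := CommRingCat.ofHom
    (((X.presheaf.map i).hom.comp (baseSubring f U.unop).subtype).codRestrict
      (baseSubring f V.unop) (fun a => map_mem f i a.1 a.2))
  map_id U := by
    ext a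
    change X.presheaf.map (𝟙 U) a.1 = a.1
    rw [CategoryTheory.Functor.map_id]
    rfl
  map_comp i j := by
    ext a
    change X.presheaf.map (i ≫ j) a.1 = X.presheaf.map j (X.presheaf.map i a.1)
    rw [CategoryTheory.Functor.map_comp]
    rfl

/-- The inclusion. -/
noncomputable def baseIncl : basePresheaf f ⟶ X.presheaf where
  app U := CommRingCat.ofHom (baseSubring f U.unop).subtype
  naturality U V i := by
    ext a
    rfl

/-- The presheaf of Kähler differentials. -/
noncomputable def P : PresheafOfModules.{u} (X.presheaf ⋙ forget₂ CommRingCat.{u} RingCat.{u}) :=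
  PresheafOfModules.DifferentialsConstruction.relativeDifferentials' (baseIncl f)

/-- The universal presheaf derivation. -/
noncomputable def dP : (P f).Derivation' (baseIncl f) :=
  PresheafOfModules.DifferentialsConstruction.derivation' (baseIncl f)

/-- The sheaf of differentials. -/
noncomputable def Om : X.Modules :=
  (PresheafOfModules.sheafification (𝟙 X.ringCatSheaf.obj)).obj (P f)

/-- The unit of sheafification. -/
noncomputable def eta : P f ⟶ (Om f).val :=
  (PresheafOfModules.sheafificationAdjunction (𝟙 X.ringCatSheaf.obj)).unit.app (P f)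

variable {f}

theorem der_mem {F : X.Modules} (D : Der f F) (U : X.Opens) (a : Γ(X, U))
    (ha : a ∈ baseSubring f U) : D.app U a = 0 := by
  let S : Subring Γ(X, U) :=
    { carrier := {a | D.app U a = 0}
      mul_mem' := fun {a b} ha hb => by
        change D.app U (a * b) = 0
        rw [app_mul, show D.app U a = 0 from ha, show D.app U b = 0 from hb, smul_zero, smul_zero,
          add_zero]
      one_mem' := by
        change D.app U 1 = 0
        have := app_mul D U 1 1
        simpa using this
      add_mem' := fun {a b} ha hb => by
        change D.app U (a + b) = 0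
        rw [map_add, show D.app U a = 0 from ha, show D.app U b = 0 from hb, add_zero]
      zero_mem' := map_zero _
      neg_mem' := fun {a} ha => by
        change D.app U (-a) = 0
        rw [map_neg, show D.app U a = 0 from ha, neg_zero] }
  exact baseSubring_le f U S (fun V e c => app_appLE D U V e c) ha

/-- A derivation over `Y` as a presheaf derivation over the presheaf of subrings. -/
noncomputable def toP {F : X.Modules} (D : Der f F) :
    PresheafOfModules.Derivation' (R := X.presheaf) F.val (baseIncl f) where
  d {U} := D.app U.unop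
  d_mul {U} a b := app_mul D U.unop a b
  d_map {_ _} i s := app_map D i.unop.le s
  d_app {U} a := der_mem D U.unop a.1 a.2

variable (f) in
/-- The derivation into the sheaf of differentials. -/
noncomputable def dOm : Der f (Om f) :=
  mkDer f (Om f) (fun U => ((dP f).postcomp (eta f)).d (X := op U))
    (fun U a b => ((dP f).postcomp (eta f)).d_mul a b)
    (fun U V e a => ((dP f).postcomp (eta f)).d_map (homOfLE e).op a)
    (fun V c => by
      have h : f.app V c ∈ baseSubring f (f ⁻¹ᵁ V) := by
        have := appLE_mem f (f ⁻¹ᵁ V) V le_rfl c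
        rwa [← Scheme.Hom.app_eq_appLE] at this
      exact ((dP f).postcomp (eta f)).d_app (X := op (f ⁻¹ᵁ V)) ⟨f.app V c, h⟩)

theorem dOm_app (U : X.Opens) (a : Γ(X, U)) :
    (dOm f).app U a = (eta f).app (op U) ((dP f).d (X := op U) a) := rfl

theorem isUniversal_dOm : IsUniversal (dOm f) := by
  intro F D
  let u := PresheafOfModules.DifferentialsConstruction.isUniversal' (baseIncl f)
  let t : P f ⟶ F.val := u.desc (toP D)
  let A := PresheafOfModules.sheafificationAdjunction (𝟙 X.ringCatSheaf.obj)
  let α : Om f ⟶ F := (A.homEquiv (P f) F).symm t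
  have hα : eta f ≫ α.val = t := by
    have := (A.homEquiv (P f) F).apply_symm_apply t
    rw [Adjunction.homEquiv_unit] at this
    exact this
  have hfac : (dP f).postcomp t = toP D := u.fac (toP D)
  refine ⟨α, ?_, fun β hβ => ?_⟩
  · apply ext_of_app
    intro U a
    change (α.val.app (op U)) ((eta f).app (op U) ((dP f).d (X := op U) a)) = D.app U a
    have h1 := PresheafOfModules.Derivation.congr_d hfac (X := op U) a
    have h2 : (eta f ≫ α.val).app (op U) ((dP f).d (X := op U) a) =
        t.app (op U) ((dP f).d (X := op U) a) := by rw [hα]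
    exact h2.trans h1
  · apply (A.homEquiv (P f) F).injective
    rw [Equiv.apply_symm_apply, Adjunction.homEquiv_unit]
    apply u.postcomp_injective
    refine Eq.trans ?_ hfac.symm
    apply PresheafOfModules.Derivation.ext
    funext U
    ext a
    have h1 : β.app U.unop ((dOm f).app U.unop a) = D.app U.unop a := by
      subst hβ
      rfl
    exact h1

variable (f) in
/-- Every morphism of schemes has a universal derivation. -/
theorem exists_isUniversal : ∃ (Ω : X.Modules) (d : Der f Ω), IsUniversal d :=
  ⟨Om f, dOm f, isUniversal_dOm⟩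

end K583.ExistsUniv
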