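import Groth.Agent.OmegaSh.K583.AlgUniv
import Groth.Agent.CohqA.BaseChangeMod
import Mathlib.RingTheory.Smooth.Basic
import Mathlib.RingTheory.RingHom.Smooth

/-!
# The sequence `C ⊗ J → C ⊗ I → C ⊗ Ω → 0` of rings `A → B → C` with `A → C` surjective

`I = ker (B → C)`, `J = ker (A → C)`, everything unbundled: `κ : I' → B` and `μ : J' → A` injective with
ranges `I`, `J`; `u : I' → MI`, `v : J' → MJ`, `t : Ω' → E` base changes to `C`; `δ : B → Ω'` a
universal `A`-derivation.
-/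

set_option autoImplicit false
universe u

namespace K583.ConAlg

open K583.AlgUniv Groth.Agent.CohqA.BaseChangeMod

variable {A B C : Type u} [CommRing A] [CommRing B] [CommRing C] {φ : A →+* B} {π : B →+* C}
  {τ : A →+* C} (hτ : ∀ a, τ a = π (φ a)) (hs : Function.Surjective τ)
  {I' : Type u} [AddCommGroup I'] [Module B I'] {κ : I' →ₗ[B] B}
  (hκr : ∀ b, b ∈ LinearMap.range κ ↔ π b = 0)
  {J' : Type u} [AddCommGroup J'] [Module A J'] {μ : J' →ₗ[A] A}
  (hμr : ∀ a, a ∈ LinearMap.range μ ↔ τ a = 0)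
  {MI : Type u} [AddCommGroup MI] [Module C MI] {u : I' →+ MI} (hu : IsBC π u)
  {MJ : Type u} [AddCommGroup MJ] [Module C MJ] {v : J' →+ MJ} (hv : IsBC τ v)
  {Ω' : Type u} [AddCommGroup Ω'] [Module B Ω'] {δ : B →+ Ω'} (hδ : IsAlgUniv φ δ)
  {E : Type u} [AddCommGroup E] [Module C E] {t : Ω' →+ E} (ht : IsBC π t)
  {Φ : MI →ₗ[C] E} (hΦ : ∀ x, Φ (u x) = t (δ (κ x)))
  {Ψ : MJ →ₗ[C] MI} (hΨ : ∀ (y : J') (x : I'), κ x = φ (μ y) → Ψ (v y) = u x)

include hτ hs hκr in
theorem exists_pair (b : B) : ∃ (a : A) (x : I'), κ x = b - φ a := by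
  obtain ⟨a, ha⟩ := hs (π b)
  obtain ⟨x, hx⟩ := (hκr (b - φ a)).2 (by rw [map_sub, ← hτ, ha, sub_self])
  exact ⟨a, x, hx⟩

include hδ ht in
/-- Maps out of `C ⊗ Ω` are determined on differentials. -/
theorem tensor_hom_ext {Q : Type u} [AddCommGroup Q] [Module C Q] {L L' : E →ₗ[C] Q}
    (h : ∀ b, L (t (δ b)) = L' (t (δ b))) : L = L' := by
  let _ : Module B Q := Module.compHom Q π
  let L₁ : Ω' →ₗ[B] Q :=
    { toFun := fun w => L (t w)
      map_add' := fun a b => by rw [map_add, map_add]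
      map_smul' := fun r w => by
        rw [ht.map_smul, map_smul]
        rfl }
  let L₂ : Ω' →ₗ[B] Q :=
    { toFun := fun w => L' (t w)
      map_add' := fun a b => by rw [map_add, map_add]
      map_smul' := fun r w => by
        rw [ht.map_smul, map_smul]
        rfl }
  have h1 : L₁ = L₂ := hδ.hom_ext h
  exact ht.hom_ext fun w => LinearMap.congr_fun h1 w

include hτ hs hκr hδ ht hΦ in
theorem surjective : Function.Surjective Φ := by
  rw [← LinearMap.range_eq_top]
  have h : (LinearMap.range Φ).mkQ = 0 := by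
    refine tensor_hom_ext hδ ht fun b => ?_
    obtain ⟨a, x, hx⟩ := exists_pair hτ hs hκr b
    rw [LinearMap.zero_apply, Submodule.mkQ_apply, Submodule.Quotient.mk_eq_zero]
    refine ⟨u x, ?_⟩
    rw [hΦ, hx, map_sub, hδ.zero, sub_zero]
  rw [← Submodule.ker_mkQ (LinearMap.range Φ), h, LinearMap.ker_zero]

include hτ hκr hμr hv hδ hΦ hΨ in
theorem comp_zero : Φ ∘ₗ Ψ = 0 := by
  refine hv.hom_ext fun y => ?_
  obtain ⟨x, hx⟩ := (hκr (φ (μ y))).2 (by rw [← hτ]; exact (hμr _).1 ⟨y, rfl⟩)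
  rw [LinearMap.comp_apply, hΨ y x hx, hΦ, hx, hδ.zero, map_zero, LinearMap.zero_apply]

include hτ hs hκr hμr hu hδ ht hΦ hΨ in
theorem mem_range (m : MI) (hm : Φ m = 0) : m ∈ LinearMap.range Ψ := by
  let Q := MI ⧸ LinearMap.range Ψ
  let _ : Module B Q := Module.compHom Q π
  choose a x hx using exists_pair hτ hs hκr
  have key : ∀ (b : B) (a' : A) (x' : I'), κ x' = b - φ a' →
      (LinearMap.range Ψ).mkQ (u (x b)) = (LinearMap.range Ψ).mkQ (u x') := by
    intro b a' x' hx'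
    rw [← sub_eq_zero, ← map_sub, ← map_sub, Submodule.mkQ_apply, Submodule.Quotient.mk_eq_zero]
    have h1 : κ (x b - x') = φ (a' - a b) := by
      rw [map_sub, hx, hx', map_sub]
      ring
    obtain ⟨y, hy⟩ := (hμr (a' - a b)).2 (by
      rw [hτ, ← h1]
      exact (hκr _).1 ⟨_, rfl⟩)
    exact ⟨v y, hΨ y _ (by rw [h1, hy])⟩
  let D : B →+ Q := AddMonoidHom.mk' (fun b => (LinearMap.range Ψ).mkQ (u (x b))) (fun b b' => by
    rw [key (b + b') (a b + a b') (x b + x b') (by rw [map_add, hx, hx, map_add]; ring), map_add,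
      map_add])
  have hD : ∀ (b : B) (a' : A) (x' : I'), κ x' = b - φ a' →
      D b = (LinearMap.range Ψ).mkQ (u x') := key
  have hDer : IsDer φ D := by
    refine ⟨fun b b' => ?_, fun c => ?_⟩
    · rw [hD (b * b') (a b * a b') (b • x b' + φ (a b') • x b) (by
        rw [map_add, map_smul, map_smul, hx, hx, map_mul, smul_eq_mul, smul_eq_mul]; ring),
        map_add, map_add, hu.map_smul, hu.map_smul, map_smul, map_smul]
      have e1 : π (φ (a b')) = π b' := by
        have e2 : π (κ (x b')) = 0 := (hκr _).1 ⟨_, rfl⟩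
        rw [hx, map_sub, sub_eq_zero] at e2
        exact e2.symm
      rw [e1]
      rfl
    · rw [hD (φ c) c 0 (by rw [map_zero, sub_self]), map_zero, map_zero]
  obtain ⟨L, hL, -⟩ := hδ.lift Q D hDer
  obtain ⟨L', hL', -⟩ := ht.lift Q L.toAddMonoidHom (fun r w => L.map_smul r w)
  have h2 : L' ∘ₗ Φ = (LinearMap.range Ψ).mkQ := hu.hom_ext fun x' => by
    rw [LinearMap.comp_apply, hΦ, hL']
    refine (hL (κ x')).trans ?_
    exact hD (κ x') 0 x' (by rw [map_zero, sub_zero])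
  have h3 := LinearMap.congr_fun h2 m
  rw [LinearMap.comp_apply, hm, map_zero] at h3
  exact (Submodule.Quotient.mk_eq_zero _).1 h3.symm

include hτ hs hκr hμr hu hv hδ ht hΦ hΨ in
theorem exact : Function.Exact Ψ Φ := by
  intro m
  refine ⟨mem_range hτ hs hκr hμr hu hδ ht hΦ hΨ m, ?_⟩
  rintro ⟨y, rfl⟩
  exact LinearMap.congr_fun (comp_zero hτ hκr hμr hv hδ hΦ hΨ) y

include hτ hs in
/-- Lifting `B → C = A/J` to `A/J²` when `A → B` is formally smooth. -/
theorem exists_lift_sq (hφ : φ.FormallySmooth) :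
    ∃ s : B →+* A ⧸ (RingHom.ker τ) ^ 2, (∀ a, s (φ a) = Ideal.Quotient.mk _ a) ∧
      ∀ b a, s b = Ideal.Quotient.mk _ a → τ a = π b := by
  let _ := φ.toAlgebra
  let _ := τ.toAlgebra
  have hφ' : Algebra.FormallySmooth A B := hφ
  let f : B →ₐ[A] C := { π with commutes' := fun a => (hτ a).symm }
  have h0 : ∀ a ∈ (RingHom.ker τ) ^ 2, τ a = 0 := fun a ha => Ideal.pow_le_self two_ne_zero ha
  let g : (A ⧸ (RingHom.ker τ) ^ 2) →ₐ[A] C :=
    { Ideal.Quotient.lift _ τ h0 with commutes' := fun a => rfl }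
  have hg : Function.Surjective g := Ideal.Quotient.lift_surjective_of_surjective _ h0 hs
  have hg' : IsNilpotent (RingHom.ker (g : (A ⧸ (RingHom.ker τ) ^ 2) →+* C)) := by
    refine ⟨2, ?_⟩
    have h1 : RingHom.ker (g : (A ⧸ (RingHom.ker τ) ^ 2) →+* C) =
        (RingHom.ker τ).map (Ideal.Quotient.mk ((RingHom.ker τ) ^ 2)) := by
      ext q
      obtain ⟨a, rfl⟩ := Ideal.Quotient.mk_surjective q
      rw [RingHom.mem_ker]
      constructor
      · intro h
        exact Ideal.mem_map_of_mem _ h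
      · intro h
        obtain ⟨a', ha', e⟩ := (Ideal.mem_map_iff_of_surjective _
          Ideal.Quotient.mk_surjective).1 h
        rw [← e]
        exact ha'
    rw [h1, ← Ideal.map_pow, Ideal.map_quotient_self]
    rfl
  refine ⟨(Algebra.FormallySmooth.liftOfSurjective f g hg hg').toRingHom, fun a => ?_,
    fun b a h => ?_⟩
  · exact (Algebra.FormallySmooth.liftOfSurjective f g hg hg').commutes a
  · have h1 := Algebra.FormallySmooth.liftOfSurjective_apply f g hg hg' b
    have h2 : Algebra.FormallySmooth.liftOfSurjective f g hg hg' b =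
      Ideal.Quotient.mk _ a := h
    rw [h2] at h1
    exact h1

include hτ hs hκr hμr hu hv hΨ in
theorem injective (hμ : Function.Injective μ) (hφ : φ.FormallySmooth) :
    Function.Injective Ψ := by
  obtain ⟨s, hs1, hs2⟩ := exists_lift_sq (π := π) hτ hs hφ
  have hex : ∀ x : I', ∃ y : J', s (κ x) = Ideal.Quotient.mk _ (μ y) := by
    intro x
    obtain ⟨a, ha⟩ := Ideal.Quotient.mk_surjective (s (κ x))
    obtain ⟨y, hy⟩ := (hμr a).2 (by
      rw [hs2 (κ x) a ha.symm]
      exact (hκr _).1 ⟨_, rfl⟩)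
    exact ⟨y, by rw [hy, ha]⟩
  -- `v` kills `J²`
  have hsq : ∀ y : J', μ y ∈ (RingHom.ker τ) ^ 2 → v y = 0 := by
    have : ∀ a ∈ (RingHom.ker τ) ^ 2, ∃ y : J', μ y = a ∧ v y = 0 := by
      intro a ha
      rw [pow_two] at ha
      induction ha using Submodule.mul_induction_on' with
      | mem_mul_mem a ha b hb =>
        obtain ⟨y, hy⟩ := (hμr b).2 hb
        refine ⟨a • y, ?_, ?_⟩
        · rw [map_smul, hy, smul_eq_mul]
        · rw [hv.map_smul, RingHom.mem_ker.1 ha, zero_smul]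
      | add a _ b _ iha ihb =>
        obtain ⟨y, hy, hy'⟩ := iha
        obtain ⟨z, hz, hz'⟩ := ihb
        exact ⟨y + z, by rw [map_add, hy, hz], by rw [map_add, hy', hz', add_zero]⟩
    intro y hy
    obtain ⟨z, hz, hz'⟩ := this _ hy
    rw [← hμ hz, hz']
  have key : ∀ (q : A ⧸ (RingHom.ker τ) ^ 2) (y y' : J'), q = Ideal.Quotient.mk _ (μ y) →
      q = Ideal.Quotient.mk _ (μ y') → v y = v y' := by
    intro q y y' h h'
    rw [← sub_eq_zero, ← map_sub]
    apply hsq
    rw [map_sub, ← Ideal.Quotient.eq]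
    exact h.symm.trans h'
  choose y hy using hex
  let R₀ : I' →+ MJ := AddMonoidHom.mk' (fun x => v (y x)) (fun x x' => by
    rw [← map_add]
    exact key _ _ _ (hy _) (by rw [map_add, map_add, hy, hy, map_add, map_add]))
  have hR₀ : ∀ (x : I') (z : J'), s (κ x) = Ideal.Quotient.mk _ (μ z) → R₀ x = v z :=
    fun x z h => key _ _ _ (hy x) h
  obtain ⟨R, hR, -⟩ := hu.lift MJ R₀ (fun b x => by
    obtain ⟨a, ha⟩ := Ideal.Quotient.mk_surjective (s b)
    rw [hR₀ (b • x) (a • y x) (by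
      rw [κ.map_smul, μ.map_smul, smul_eq_mul, smul_eq_mul, map_mul, map_mul, ha, hy]),
      hv.map_smul, hs2 b a ha.symm]
    rfl)
  have h3 : R ∘ₗ Ψ = LinearMap.id := hv.hom_ext fun z => by
    obtain ⟨x, hx⟩ := (hκr (φ (μ z))).2 (by rw [← hτ]; exact (hμr _).1 ⟨z, rfl⟩)
    rw [LinearMap.comp_apply, hΨ z x hx, hR, hR₀ x z (by rw [hx, hs1]), LinearMap.id_apply]
  intro m m' h
  have h4 := congrArg R h
  have h5 := LinearMap.congr_fun h3 m
  have h6 := LinearMap.congr_fun h3 m'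
  rw [LinearMap.comp_apply] at h5 h6
  rw [h5, h6] at h4
  exact h4

end K583.ConAlg
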