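import Groth.Agent.OmegaSh.K583.DerFunct
import Groth.Agent.OmegaSh.K583.AlgUniv
import Groth.Agent.Fdesc.PullbackStalk

/-!
# Derivations on stalks

For `D : Der f F` and `x : X`:
* `stalkDer D x : O_{X,x} →+ F_x`, `stalkDer_germ`, `isDer_stalkDer`;
* `isAlgUniv_stalkDer`: for a universal derivation `stalkDer d x` is a universal
  `O_{Y, f x}`-derivation of `O_{X,x}`.
-/

set_option autoImplicit false
universe u

open CategoryTheory CategoryTheory.Limits AlgebraicGeometry TopologicalSpace Opposite OmegaSh

namespace K583.StalkDer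

open K583.DerAffine K583.DerFunct K583.AlgUniv Groth.Agent.Fdesc.Skyscraper

variable {X Y : Scheme.{u}} {f : X ⟶ Y} {F : X.Modules}

theorem germ_app_eq (D : Der f F) (x : X) {U V : X.Opens} (hU : x ∈ U) (hV : x ∈ V)
    (s : Γ(X, U)) (t : Γ(X, V)) (h : X.presheaf.germ U x hU s = X.presheaf.germ V x hV t) :
    F.presheaf.germ U x hU (D.app U s) = F.presheaf.germ V x hV (D.app V t) := by
  obtain ⟨W, hW, iU, iV, e⟩ := TopCat.Presheaf.germ_eq X.presheaf x hU hV s t h
  rw [← TopCat.Presheaf.germ_res_apply F.presheaf iU x hW, ← TopCat.Presheaf.germ_res_apply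
    F.presheaf iV x hW]
  congr 1
  have e1 := app_map D iU.le s
  have e2 := app_map D iV.le t
  exact e1.symm.trans ((congrArg _ e).trans e2)

theorem exists_common (x : X) (a b : X.presheaf.stalk x) :
    ∃ (U : X.Opens) (hU : x ∈ U) (s t : Γ(X, U)), X.presheaf.germ U x hU s = a ∧
      X.presheaf.germ U x hU t = b := by
  obtain ⟨U, hU, s, rfl⟩ := TopCat.Presheaf.exists_germ_eq X.presheaf a
  obtain ⟨V, hV, t, rfl⟩ := TopCat.Presheaf.exists_germ_eq X.presheaf b
  refine ⟨U ⊓ V, ⟨hU, hV⟩, X.presheaf.map (homOfLE inf_le_left).op s,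
    X.presheaf.map (homOfLE inf_le_right).op t, ?_, ?_⟩
  · exact TopCat.Presheaf.germ_res_apply X.presheaf (homOfLE inf_le_left) x ⟨hU, hV⟩ s
  · exact TopCat.Presheaf.germ_res_apply X.presheaf (homOfLE inf_le_right) x ⟨hU, hV⟩ t

/-- The value of a derivation on the stalk, as a function. -/
noncomputable def stalkFun (D : Der f F) (x : X) (t : X.presheaf.stalk x) : F.presheaf.stalk x :=
  let h := TopCat.Presheaf.exists_germ_eq X.presheaf t
  F.presheaf.germ h.choose x h.choose_spec.choose (D.app _ h.choose_spec.choose_spec.choose)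

theorem stalkFun_germ (D : Der f F) (x : X) (U : X.Opens) (hU : x ∈ U) (s : Γ(X, U)) :
    stalkFun D x (X.presheaf.germ U x hU s) = F.presheaf.germ U x hU (D.app U s) :=
  germ_app_eq D x _ _ _ _
    (TopCat.Presheaf.exists_germ_eq X.presheaf (X.presheaf.germ U x hU s)).choose_spec.choose_spec.choose_spec

/-- The derivation induced on the stalk. -/
noncomputable def stalkDer (D : Der f F) (x : X) : X.presheaf.stalk x →+ F.presheaf.stalk x where
  toFun := stalkFun D x
  map_zero' := by
    have := stalkFun_germ D x ⊤ trivial 0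
    rwa [map_zero, map_zero, map_zero] at this
  map_add' a b := by
    obtain ⟨U, hU, s, t, rfl, rfl⟩ := exists_common x a b
    rw [← map_add, stalkFun_germ, stalkFun_germ, stalkFun_germ, map_add, map_add]

theorem stalkDer_germ (D : Der f F) (x : X) (U : X.Opens) (hU : x ∈ U) (s : Γ(X, U)) :
    stalkDer D x (X.presheaf.germ U x hU s) = F.presheaf.germ U x hU (D.app U s) :=
  stalkFun_germ D x U hU s

theorem isDer_stalkDer (D : Der f F) (x : X) : IsDer (f.stalkMap x).hom (stalkDer D x) where
  leibniz a b := by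
    obtain ⟨U, hU, s, t, rfl, rfl⟩ := exists_common x a b
    rw [← map_mul, stalkDer_germ, stalkDer_germ, stalkDer_germ, app_mul, map_add]
    exact congrArg₂ (· + ·) (germ_smul F x U hU s (D.app U t)) (germ_smul F x U hU t (D.app U s))
  zero c := by
    obtain ⟨V, hV, s, rfl⟩ := TopCat.Presheaf.exists_germ_eq Y.presheaf c
    have h1 : f.stalkMap x (Y.presheaf.germ V (f x) hV s) =
      X.presheaf.germ (f ⁻¹ᵁ V) x hV (f.app V s) := Scheme.Hom.germ_stalkMap_apply f V x hV s
    refine (congrArg (stalkDer D x) h1).trans ?_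
    rw [stalkDer_germ, app_base, map_zero]

/-- The derivation to the skyscraper attached to a derivation of the local ring. -/
noncomputable def toSkyDer (f : X ⟶ Y) {x : X} {Q : Type u} [AddCommGroup Q]
    [Module (X.presheaf.stalk x) Q] (g : X.presheaf.stalk x →+ Q)
    (hg : IsDer (f.stalkMap x).hom g) : Der f (sky x Q) :=
  mkDer f (sky x Q) (fun U =>
      ({ toFun := fun s => fun h => g (X.presheaf.germ U x h.down s)
         map_zero' := by
          funext h
          rw [map_zero, map_zero]
          rfl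
         map_add' := fun s t => by
          funext h
          rw [map_add, map_add]
          rfl } : Γ(X, U) →+ Sec x Q U))
    (fun U a b => by
      refine (funext fun h => ?_ : (_ : Sec x Q U) = _)
      change g (X.presheaf.germ U x h.down (a * b)) =
        X.presheaf.germ U x h.down a • g (X.presheaf.germ U x h.down b) +
        X.presheaf.germ U x h.down b • g (X.presheaf.germ U x h.down a)
      rw [map_mul, hg.leibniz])
    (fun U V e a => by
      refine (funext fun h => ?_ : (_ : Sec x Q V) = _)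
      exact congrArg g (TopCat.Presheaf.germ_res_apply X.presheaf (homOfLE e) x h.down a))
    (fun V c => by
      refine (funext fun h => ?_ : (_ : Sec x Q (f ⁻¹ᵁ V)) = _)
      have h1 : f.stalkMap x (Y.presheaf.germ V (f x) h.down c) =
        X.presheaf.germ (f ⁻¹ᵁ V) x h.down (f.app V c) :=
          Scheme.Hom.germ_stalkMap_apply f V x h.down c
      exact (congrArg g h1.symm).trans (hg.zero _))

theorem toSkyDer_app {x : X} {Q : Type u} [AddCommGroup Q]
    [Module (X.presheaf.stalk x) Q] (g : X.presheaf.stalk x →+ Q)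
    (hg : IsDer (f.stalkMap x).hom g) (U : X.Opens) (s : Γ(X, U)) (h : PLift (x ∈ U)) :
    ((toSkyDer f g hg).app U s : Sec x Q U) h = g (X.presheaf.germ U x h.down s) := rfl

/-- On stalks a universal derivation is a universal derivation of local rings. -/
theorem isAlgUniv_stalkDer {Ω : X.Modules} {d : Der f Ω} (hd : IsUniversal d) (x : X) :
    IsAlgUniv (f.stalkMap x).hom (stalkDer d x) where
  toIsDer := isDer_stalkDer d x
  lift Q _ _ g hg := by
    refine ⟨ofSky (univLift hd (toSkyDer f g hg)), fun b => ?_, fun L hL => ?_⟩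
    · obtain ⟨U, hU, s, rfl⟩ := TopCat.Presheaf.exists_germ_eq X.presheaf b
      rw [stalkDer_germ, ofSky_germ, univLift_app, toSkyDer_app]
    · rw [← ofSky_toSky L]
      congr 1
      apply univ_hom_ext hd
      intro U a
      rw [univLift_app]
      refine (funext fun h => ?_ : (_ : Sec x Q U) = _)
      rw [toSkyDer_app]
      refine Eq.trans ?_ (hL (X.presheaf.germ U x h.down a))
      rw [stalkDer_germ]
      rfl

/-- Comparison with Mathlib's Kähler differentials. -/
theorem exists_kaehler_equiv {Ω : X.Modules} {d : Der f Ω} (hd : IsUniversal d) (x : X)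
    [Algebra (Y.presheaf.stalk (f x)) (X.presheaf.stalk x)]
    (halg : algebraMap (Y.presheaf.stalk (f x)) (X.presheaf.stalk x) = (f.stalkMap x).hom) :
    ∃ ε : Ω[X.presheaf.stalk x⁄Y.presheaf.stalk (f x)] ≃ₗ[X.presheaf.stalk x]
        Ω.presheaf.stalk x,
      ∀ b, ε (KaehlerDifferential.D (Y.presheaf.stalk (f x)) (X.presheaf.stalk x) b) =
        stalkDer d x b := by
  have h := isAlgUniv_stalkDer hd x
  rw [← halg] at h
  exact h.exists_kaehler_equiv

/-- The stalk of the canonical map `h^* Ω → Ω'`. -/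
theorem stalkMap_isDiffCompat {X' Y' : Scheme.{u}} {f' : X' ⟶ Y'} {h : X' ⟶ X} {Ω : X.Modules}
    {d : Der f Ω} {Ω' : X'.Modules} {d' : Der f' Ω'} {c : (Scheme.Modules.pullback h).obj Ω ⟶ Ω'}
    (hc : IsDiffCompat h d d' c) (x : X') (a : X.presheaf.stalk (h x)) :
    stalkMap c x (Groth.Agent.Fdesc.PullbackStalk.canAdd h Ω x (stalkDer d (h x) a)) =
      stalkDer d' x (h.stalkMap x a) := by
  obtain ⟨U, hU, s, rfl⟩ := TopCat.Presheaf.exists_germ_eq X.presheaf a
  have h1 : h.stalkMap x (X.presheaf.germ U (h x) hU s) =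
      X'.presheaf.germ (h ⁻¹ᵁ U) x hU (h.app U s) := Scheme.Hom.germ_stalkMap_apply h U x hU s
  rw [stalkDer_germ]
  refine (congrArg (stalkMap c x) (Groth.Agent.Fdesc.PullbackStalk.canAdd_germ h Ω x U hU _)).trans ?_
  refine (stalkMap_germ c x (h ⁻¹ᵁ U) hU _).trans ?_
  refine Eq.trans ?_ (congrArg (stalkDer d' x) h1).symm
  rw [stalkDer_germ]
  exact congrArg _ (hc U s)

end K583.StalkDer
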