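import Groth.Agent.OmegaSh.K583.IdealStalk
import Groth.Agent.OmegaSh.K583.ConAlg
import Groth.Agent.OmegaSh.K583.StalkDer
import Groth.Agent.Dcoh.StalkMod
import Groth.Agent.PerfC.FlatExact

/-!
# The sequence `C_{Z/Y} → C_{Z/X} → i^* Ω_{X/Y} → 0`

* `stalk_conormalMap_germ`, `stalk_conormalDiff`: the canonical maps on stalks;
* `exact`, `epi`: exactness;
* `mono`: injectivity on the left for `X → Y` smooth.
-/

set_option autoImplicit false
universe u

open CategoryTheory CategoryTheory.Limits AlgebraicGeometry TopologicalSpace Opposite OmegaSh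

namespace K583.ConExact

open K583.ConSect K583.IdealStalk K583.StalkDer Groth.Agent.CycB.StalkExact
  Groth.Agent.Fdesc.PullbackStalk Groth.Agent.CohqA.BaseChangeMod

/-- The conormal map of a square, on stalks. -/
theorem stalk_conormalMap_germ {Z X Z' X' : Scheme.{u}} {i : Z ⟶ X} {i' : Z' ⟶ X'} {g : X ⟶ X'}
    {gZ : Z ⟶ Z'} {ψ : (Scheme.Modules.pullback gZ).obj (Omega.conormal i') ⟶ Omega.conormal i}
    (hψ : IsConormalMap i i' g gZ ψ) (z : Z) (U' : X'.Opens) (hz : i' (gZ z) ∈ U')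
    (hz' : i z ∈ g ⁻¹ᵁ U') (s' : Γ(ClSub.idealMod i'.ker, U'))
    (s : Γ(ClSub.idealMod i.ker, g ⁻¹ᵁ U'))
    (hs : idealSect i.ker (g ⁻¹ᵁ U') s = g.app U' (idealSect i'.ker U' s')) :
    stalkLin ψ z (canAdd gZ (Omega.conormal i') z (canAdd i' (ClSub.idealMod i'.ker) (gZ z)
      ((ClSub.idealMod i'.ker).presheaf.germ U' (i' (gZ z)) hz s'))) =
      canAdd i (ClSub.idealMod i.ker) z
        ((ClSub.idealMod i.ker).presheaf.germ (g ⁻¹ᵁ U') (i z) hz' s) := by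
  have h1 : canAdd i' (ClSub.idealMod i'.ker) (gZ z)
      ((ClSub.idealMod i'.ker).presheaf.germ U' (i' (gZ z)) hz s') =
      (Omega.conormal i').presheaf.germ (i' ⁻¹ᵁ U') (gZ z) hz (conormalSect i' U' s') :=
    canAdd_germ i' (ClSub.idealMod i'.ker) (gZ z) U' hz s'
  have h2 : canAdd gZ (Omega.conormal i') z
      ((Omega.conormal i').presheaf.germ (i' ⁻¹ᵁ U') (gZ z) hz (conormalSect i' U' s')) =
      ((Scheme.Modules.pullback gZ).obj (Omega.conormal i')).presheaf.germ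
        (gZ ⁻¹ᵁ (i' ⁻¹ᵁ U')) z hz
        (pullSect gZ (Omega.conormal i') (i' ⁻¹ᵁ U') (conormalSect i' U' s')) :=
    canAdd_germ gZ (Omega.conormal i') z (i' ⁻¹ᵁ U') hz _
  have h3 : canAdd i (ClSub.idealMod i.ker) z
      ((ClSub.idealMod i.ker).presheaf.germ (g ⁻¹ᵁ U') (i z) hz' s) =
      (Omega.conormal i).presheaf.germ (i ⁻¹ᵁ (g ⁻¹ᵁ U')) z hz'
        (conormalSect i (g ⁻¹ᵁ U') s) :=
    canAdd_germ i (ClSub.idealMod i.ker) z (g ⁻¹ᵁ U') hz' s
  let V : Z.Opens := gZ ⁻¹ᵁ (i' ⁻¹ᵁ U') ⊓ i ⁻¹ᵁ (g ⁻¹ᵁ U')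
  have hV : z ∈ V := ⟨hz, hz'⟩
  have h4 := hψ.2 U' s' s hs V inf_le_left inf_le_right
  rw [h1, h2, h3, stalkLin_germ,
    ← TopCat.Presheaf.germ_res_apply (Omega.conormal i).presheaf
      (homOfLE (inf_le_left : V ≤ gZ ⁻¹ᵁ (i' ⁻¹ᵁ U'))) z hV,
    ← TopCat.Presheaf.germ_res_apply (Omega.conormal i).presheaf
      (homOfLE (inf_le_right : V ≤ i ⁻¹ᵁ (g ⁻¹ᵁ U'))) z hV]
  exact congrArg _ h4

/-- The map `C_{Z/X} → i^* Ω`, on stalks. -/
theorem stalk_conormalDiff {Z X Y : Scheme.{u}} {i : Z ⟶ X} {f : X ⟶ Y} {Ω : X.Modules}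
    {d : Der f Ω} {φ : Omega.conormal i ⟶ (Scheme.Modules.pullback i).obj Ω}
    (hφ : IsConormalDiff i d φ) (z : Z) (x : (ClSub.idealMod i.ker).presheaf.stalk (i z)) :
    stalkLin φ z (canAdd i (ClSub.idealMod i.ker) z x) =
      canAdd i Ω z (stalkDer d (i z) (idSt i.ker (i z) x)) := by
  obtain ⟨U, hU, s, rfl⟩ := TopCat.Presheaf.exists_germ_eq _ x
  have h1 : canAdd i (ClSub.idealMod i.ker) z
      ((ClSub.idealMod i.ker).presheaf.germ U (i z) hU s) =
      (Omega.conormal i).presheaf.germ (i ⁻¹ᵁ U) z hU (conormalSect i U s) :=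
    canAdd_germ i (ClSub.idealMod i.ker) z U hU s
  rw [h1, stalkLin_germ, hφ, idSt_germ, stalkDer_germ]
  exact (canAdd_germ i Ω z U hU _).symm

section

variable {Z X Y : Scheme.{u}} (p : X ⟶ Y) (i : Z ⟶ X) [IsImmersion i] [IsImmersion (i ≫ p)]
  [QuasiCompact i] [QuasiCompact (i ≫ p)] {Ω : X.Modules} {d : Der p Ω} (hd : IsUniversal d)
  {ψ : (Scheme.Modules.pullback (𝟙 Z)).obj (Omega.conormal (i ≫ p)) ⟶ Omega.conormal i}
  (hψ : IsConormalMap i (i ≫ p) p (𝟙 Z) ψ)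
  {φ : Omega.conormal i ⟶ (Scheme.Modules.pullback i).obj Ω} (hφ : IsConormalDiff i d φ)

/-- The ring map `O_{Y, p i z} → O_{Z, z}`. -/
noncomputable def tau (z : Z) : Y.presheaf.stalk (p (i z)) →+* Z.presheaf.stalk z :=
  ((𝟙 Z : Z ⟶ Z).stalkMap z).hom.comp ((i ≫ p).stalkMap ((𝟙 Z : Z ⟶ Z) z)).hom

omit [IsImmersion i] [IsImmersion (i ≫ p)] [QuasiCompact i] [QuasiCompact (i ≫ p)] in
theorem tau_eq (z : Z) (a : Y.presheaf.stalk (p (i z))) :
    tau p i z a = (i.stalkMap z).hom ((p.stalkMap (i z)).hom a) := by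
  have h1 : (𝟙 Z : Z ⟶ Z).stalkMap z = 𝟙 (Z.presheaf.stalk z) := Scheme.Hom.stalkMap_id Z z
  have h2 : (i ≫ p).stalkMap z = p.stalkMap (i z) ≫ i.stalkMap z := Scheme.Hom.stalkMap_comp i p z
  have h3 : tau p i z a = ((𝟙 Z : Z ⟶ Z).stalkMap z).hom (((i ≫ p).stalkMap z).hom a) := rfl
  rw [h3, h1, h2]
  rfl

omit [IsImmersion i] [QuasiCompact i] [QuasiCompact (i ≫ p)] in
theorem tau_surjective (z : Z) : Function.Surjective (tau p i z) := by
  intro c
  obtain ⟨a, ha⟩ := (i ≫ p).stalkMap_surjective z c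
  refine ⟨a, ?_⟩
  rw [tau_eq, ← ha]
  have h2 : (i ≫ p).stalkMap z = p.stalkMap (i z) ≫ i.stalkMap z := Scheme.Hom.stalkMap_comp i p z
  rw [h2]
  rfl

/-- The stalk of the ideal of `i ≫ p` at `p (i z)`. -/
noncomputable def mu (z : Z) :
    (ClSub.idealMod (i ≫ p).ker).presheaf.stalk (p (i z)) →ₗ[Y.presheaf.stalk (p (i z))]
      Y.presheaf.stalk (p (i z)) := idSt (i ≫ p).ker (p (i z))

omit [IsImmersion i] [QuasiCompact i] in
theorem mem_range_mu (z : Z) (a : Y.presheaf.stalk (p (i z))) :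
    a ∈ LinearMap.range (mu p i z) ↔ tau p i z a = 0 := by
  rw [tau_eq]
  have h1 := mem_range_idSt_iff (i ≫ p) (i ≫ p).isEmbedding.isInducing z a
  refine h1.trans ?_
  have h2 : (i ≫ p).stalkMap z = p.stalkMap (i z) ≫ i.stalkMap z := Scheme.Hom.stalkMap_comp i p z
  rw [h2]
  rfl

/-- The map `(ideal of i ≫ p)_{p (i z)} → (𝟙^* conormal)_z`. -/
noncomputable def vv (z : Z) : (ClSub.idealMod (i ≫ p).ker).presheaf.stalk (p (i z)) →+
    ((Scheme.Modules.pullback (𝟙 Z)).obj (Omega.conormal (i ≫ p))).presheaf.stalk z :=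
  (canAdd (𝟙 Z) (Omega.conormal (i ≫ p)) z).comp
    (canAdd (i ≫ p) (ClSub.idealMod (i ≫ p).ker) ((𝟙 Z : Z ⟶ Z) z))

omit [IsImmersion i] [IsImmersion (i ≫ p)] [QuasiCompact i] [QuasiCompact (i ≫ p)] in
theorem isBC_vv (z : Z) : IsBC (tau p i z) (vv p i z) :=
  (isBC_canAdd (i ≫ p) (ClSub.idealMod (i ≫ p).ker) ((𝟙 Z : Z ⟶ Z) z)).comp
    (isBC_canAdd (𝟙 Z) (Omega.conormal (i ≫ p)) z)

variable {p i}

omit [IsImmersion i] [IsImmersion (i ≫ p)] in
include hψ in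
theorem stalk_psi (z : Z) (y : (ClSub.idealMod (i ≫ p).ker).presheaf.stalk (p (i z)))
    (x : (ClSub.idealMod i.ker).presheaf.stalk (i z))
    (h : idSt i.ker (i z) x = (p.stalkMap (i z)).hom (mu p i z y)) :
    stalkLin ψ z (vv p i z y) = canAdd i (ClSub.idealMod i.ker) z x := by
  obtain ⟨U, hU, s', rfl⟩ := TopCat.Presheaf.exists_germ_eq _ y
  have h0 : i.app (p ⁻¹ᵁ U) (p.app U (idealSect (i ≫ p).ker U s')) = 0 :=
    app_idealSect (i ≫ p) U s'
  have h1 : x = (ClSub.idealMod i.ker).presheaf.germ (p ⁻¹ᵁ U) (i z) hU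
      (idLift i (p ⁻¹ᵁ U) _ h0) := by
    apply idSt_injective i.ker (i z)
    rw [h, idSt_germ, idealSect_idLift]
    have h2 : mu p i z ((ClSub.idealMod (i ≫ p).ker).presheaf.germ U (p (i z)) hU s') =
      Y.presheaf.germ U (p (i z)) hU (idealSect (i ≫ p).ker U s') := idSt_germ _ _ _ _ _
    rw [h2]
    exact Scheme.Hom.germ_stalkMap_apply p U (i z) hU _
  rw [h1]
  exact stalk_conormalMap_germ hψ z U hU hU s' _ (idealSect_idLift i _ _ h0)

include hd hψ hφ in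
theorem stalk_exact (z : Z) : Function.Exact (stalkLin ψ z) (stalkLin φ z) :=
  K583.ConAlg.exact (φ := (p.stalkMap (i z)).hom) (π := (i.stalkMap z).hom) (τ := tau p i z)
    (tau_eq p i z) (tau_surjective p i z)
    (mem_range_idSt_iff i i.isEmbedding.isInducing z)
    (mem_range_mu p i z) (isBC_canAdd i (ClSub.idealMod i.ker) z) (isBC_vv p i z)
    (isAlgUniv_stalkDer hd (i z)) (isBC_canAdd i Ω z) (stalk_conormalDiff hφ z)
    (stalk_psi hψ z)

include hd hφ in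
theorem stalk_surjective (z : Z) : Function.Surjective (stalkLin φ z) :=
  K583.ConAlg.surjective (φ := (p.stalkMap (i z)).hom) (π := (i.stalkMap z).hom) (τ := tau p i z)
    (tau_eq p i z) (tau_surjective p i z)
    (mem_range_idSt_iff i i.isEmbedding.isInducing z)
    (isAlgUniv_stalkDer hd (i z)) (isBC_canAdd i Ω z) (stalk_conormalDiff hφ z)

include hψ in
theorem stalk_injective (z : Z) (hs : (p.stalkMap (i z)).hom.FormallySmooth) :
    Function.Injective (stalkLin ψ z) :=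
  K583.ConAlg.injective (φ := (p.stalkMap (i z)).hom) (π := (i.stalkMap z).hom) (τ := tau p i z)
    (tau_eq p i z) (tau_surjective p i z)
    (mem_range_idSt_iff i i.isEmbedding.isInducing z)
    (mem_range_mu p i z) (isBC_canAdd i (ClSub.idealMod i.ker) z) (isBC_vv p i z)
    (stalk_psi hψ z) (idSt_injective _ _) hs

include hd hφ in
theorem epi : Epi φ := by
  rw [Groth.Agent.PerfC.FlatExact.epi_iff_stalkLin]
  exact stalk_surjective hd hφ

include hψ in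
theorem mono [Smooth p] : Mono ψ := by
  rw [Groth.Agent.PerfC.FlatExact.mono_iff_stalkLin]
  intro z
  refine stalk_injective hψ z ?_
  have h : i z ∈ p.smoothLocus := by
    rw [p.smoothLocus_eq_top]
    trivial
  exact h

include hd hψ hφ in
theorem comp_eq_zero : ψ ≫ φ = 0 := by
  apply Groth.Agent.Dcoh.StalkMod.hom_ext_stalk
  intro z
  rw [Groth.Agent.Dcoh.StalkMod.stalkLin_zero, stalkLin_comp]
  ext m
  exact (stalk_exact hd hψ hφ z _).2 ⟨m, rfl⟩

include hd hψ hφ in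
theorem exact (w : ψ ≫ φ = 0) : (ShortComplex.mk ψ φ w).Exact :=
  Groth.Agent.Dcoh.StalkMod.exact_of_stalks _ (stalk_exact hd hψ hφ)

end

end K583.ConExact
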