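import Groth.Prelude.Def_Omega3
import Groth.Agent.Krr.H496.ConMapSec

/-!
# The conormal map of a commutative square: existence, uniqueness, base change

* `pull_hom_ext`: morphisms out of a pull-back agreeing on pulled-back sections are equal;
* `isConormalMap`: `conormalMap` satisfies `OmegaSh.IsConormalMap`;
* `eq_of_isConormalMap`: uniqueness.
-/

set_option autoImplicit false
universe u

open CategoryTheory CategoryTheory.Limits AlgebraicGeometry TopologicalSpace Opposite OmegaSh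

namespace K583.ConMap

/-- Morphisms out of a pull-back are determined by their values on pulled-back sections. -/
theorem pull_hom_ext {X X' : Scheme.{u}} (h : X' ⟶ X) {M : X.Modules} {N : X'.Modules}
    {α β : (Scheme.Modules.pullback h).obj M ⟶ N}
    (H : ∀ (U : X.Opens) (s : Γ(M, U)),
      α.app (h ⁻¹ᵁ U) (pullSect h M U s) = β.app (h ⁻¹ᵁ U) (pullSect h M U s)) : α = β := by
  apply ((Scheme.Modules.pullbackPushforwardAdjunction h).homEquiv M N).injective
  rw [Adjunction.homEquiv_unit, Adjunction.homEquiv_unit]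
  apply Scheme.Modules.hom_ext
  intro U
  ext s
  exact H U s

/-- Version with a double pull-back. -/
theorem pull_pull_hom_ext {X X' X'' : Scheme.{u}} (h : X' ⟶ X) (k : X'' ⟶ X') {M : X.Modules}
    {N : X''.Modules}
    {α β : (Scheme.Modules.pullback k).obj ((Scheme.Modules.pullback h).obj M) ⟶ N}
    (H : ∀ (U : X.Opens) (s : Γ(M, U)),
      α.app (k ⁻¹ᵁ (h ⁻¹ᵁ U)) (pullSect k _ (h ⁻¹ᵁ U) (pullSect h M U s)) =
      β.app (k ⁻¹ᵁ (h ⁻¹ᵁ U)) (pullSect k _ (h ⁻¹ᵁ U) (pullSect h M U s))) : α = β := by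
  apply ((Scheme.Modules.pullbackPushforwardAdjunction k).homEquiv _ N).injective
  apply pull_hom_ext h
  intro U s
  rw [Adjunction.homEquiv_unit, Adjunction.homEquiv_unit]
  exact H U s

open Groth.Agent.Grpsch.ConormalIso Groth.Agent.Krr.H496.ConMapSec

variable {Z X Z' X' : Scheme.{u}} {i : Z ⟶ X} {i' : Z' ⟶ X'} {g : X ⟶ X'} {gZ : Z ⟶ Z'}
  [QuasiCompact i] [QuasiCompact i']

theorem idealSect_injective (I : X.IdealSheafData) (U : X.Opens) :
    Function.Injective (idealSect I U) := fun _ _ h =>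
  Groth.Agent.Dix.IdealModCartier.val_injective I h

/-- The section of the ideal of `i` corresponding to a section of the ideal of `i'`. -/
noncomputable def idPull (w : i ≫ g = gZ ≫ i') (U' : X'.Opens) (s' : Γ(ClSub.idealMod i'.ker, U')) :
    Γ(ClSub.idealMod i.ker, g ⁻¹ᵁ U') :=
  (idMap w).app (g ⁻¹ᵁ U') (pullSect g (ClSub.idealMod i'.ker) U' s')

theorem idealSect_idPull (w : i ≫ g = gZ ≫ i') (U' : X'.Opens)
    (s' : Γ(ClSub.idealMod i'.ker, U')) :
    idealSect i.ker (g ⁻¹ᵁ U') (idPull w U' s') = g.app U' (idealSect i'.ker U' s') :=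
  val_idMap w s'

theorem isConormalMap (w : i ≫ g = gZ ≫ i') : IsConormalMap i i' g gZ (conormalMap w) := by
  refine ⟨w.symm, fun U' s' s hs V h₁ h₂ => ?_⟩
  have e : s = idPull w U' s' := by
    apply idealSect_injective
    rw [hs, idealSect_idPull]
  subst e
  exact conormalMap_pbS w s' h₁ h₂

theorem eq_of_isConormalMap (w : i ≫ g = gZ ≫ i')
    {φ φ' : (Scheme.Modules.pullback gZ).obj (Omega.conormal i') ⟶ Omega.conormal i}
    (h : IsConormalMap i i' g gZ φ) (h' : IsConormalMap i i' g gZ φ') : φ = φ' := by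
  apply pull_pull_hom_ext
  intro U' s'
  have hV : gZ ⁻¹ᵁ (i' ⁻¹ᵁ U') ≤ i ⁻¹ᵁ (g ⁻¹ᵁ U') := by
    rw [← Scheme.Hom.comp_preimage, ← Scheme.Hom.comp_preimage, w]
  have e1 := h.2 U' s' (idPull w U' s') (idealSect_idPull w U' s') (gZ ⁻¹ᵁ (i' ⁻¹ᵁ U')) le_rfl hV
  have e2 := h'.2 U' s' (idPull w U' s') (idealSect_idPull w U' s') (gZ ⁻¹ᵁ (i' ⁻¹ᵁ U')) le_rfl hV
  have e3 : (homOfLE (le_refl (gZ ⁻¹ᵁ (i' ⁻¹ᵁ U')))).op = 𝟙 _ := rfl
  rw [← e2, e3, CategoryTheory.Functor.map_id] at e1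
  exact e1

theorem eq_conormalMap (w : i ≫ g = gZ ≫ i')
    {φ : (Scheme.Modules.pullback gZ).obj (Omega.conormal i') ⟶ Omega.conormal i}
    (h : IsConormalMap i i' g gZ φ) : φ = conormalMap w :=
  eq_of_isConormalMap w h (isConormalMap w)

end K583.ConMap
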