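import Groth.Agent.OmegaSh.K583.PairDer

/-!
# The conormal sequence of an immersion with a retraction

* `retDer`: for `i ≫ g = 𝟙`, the derivation `t ↦ i^*(d (g♯ t))`;
* `split`: the sequence `conormal i → i^* Ω_{X/S} → Ω_{Z/S}` is split exact.
-/

set_option autoImplicit false
universe u

open CategoryTheory CategoryTheory.Limits AlgebraicGeometry TopologicalSpace Opposite OmegaSh

namespace K583.Retract

open K583.ConSect K583.DerAffine K583.PairDer K583.DerFunct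

variable {Z X S : Scheme.{u}} {f : X ⟶ S} {i : Z ⟶ X} {g : X ⟶ Z} (hgi : i ≫ g = 𝟙 Z)
  (hgS : g ≫ i ≫ f = f) {Ω : X.Modules} (d : Der f Ω)

include hgi in
theorem le_pre (V : Z.Opens) : V ≤ i ⁻¹ᵁ (g ⁻¹ᵁ V) := by
  rw [← Scheme.Hom.comp_preimage, hgi]
  exact le_rfl

/-- The derivation `t ↦ i^*(d (g♯ t))`. -/
noncomputable def retDer : Der (i ≫ f) ((Scheme.Modules.pullback i).obj Ω) :=
  mkDer (i ≫ f) _ (fun V =>
      (((Scheme.Modules.pullback i).obj Ω).presheaf.map (homOfLE (le_pre hgi V)).op).hom.comp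
        ((pullSect i Ω (g ⁻¹ᵁ V)).hom.comp ((d.app (g ⁻¹ᵁ V)).comp
          (g.app V).hom.toAddMonoidHom)))
    (fun V a b => by
      change ((Scheme.Modules.pullback i).obj Ω).presheaf.map (homOfLE (le_pre hgi V)).op
        (pullSect i Ω (g ⁻¹ᵁ V) (d.app (g ⁻¹ᵁ V) (g.app V (a * b)))) = _
      have ha : ∀ a : Γ(Z, V), i.appLE (g ⁻¹ᵁ V) V (le_pre hgi V) (g.app V a) = a := by
        intro a
        rw [Scheme.Hom.app_eq_appLE, ← ConcreteCategory.comp_apply, Scheme.Hom.appLE_comp_appLE,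
          id_appLE_eq_id hgi]
        rfl
      have hs : ∀ (a : Γ(Z, V)) (m : Γ(Ω, g ⁻¹ᵁ V)),
          ((Scheme.Modules.pullback i).obj Ω).presheaf.map (homOfLE (le_pre hgi V)).op
          (pullSect i Ω (g ⁻¹ᵁ V) (g.app V a • m)) = a •
          ((Scheme.Modules.pullback i).obj Ω).presheaf.map (homOfLE (le_pre hgi V)).op
          (pullSect i Ω (g ⁻¹ᵁ V) m) := by
        intro a m
        rw [pullSect_smul, Scheme.Modules.map_smul]
        congr 1
        exact ha a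
      rw [map_mul, app_mul, map_add, map_add, hs, hs]
      rfl)
    (fun U V e a => by
      change ((Scheme.Modules.pullback i).obj Ω).presheaf.map (homOfLE (le_pre hgi V)).op
        (pullSect i Ω (g ⁻¹ᵁ V) (d.app (g ⁻¹ᵁ V) (g.app V (Z.presheaf.map (homOfLE e).op a)))) =
        ((Scheme.Modules.pullback i).obj Ω).presheaf.map (homOfLE e).op
        (((Scheme.Modules.pullback i).obj Ω).presheaf.map (homOfLE (le_pre hgi U)).op
        (pullSect i Ω (g ⁻¹ᵁ U) (d.app (g ⁻¹ᵁ U) (g.app U a))))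
      have e1 : g.app V (Z.presheaf.map (homOfLE e).op a) =
          X.presheaf.map (homOfLE (g.preimage_mono e)).op (g.app U a) :=
        congr($(g.naturality (homOfLE e).op) a)
      rw [e1, app_map, pullSect_map, resM_resM, resM_resM]
      rfl)
    (fun V c => by
      change ((Scheme.Modules.pullback i).obj Ω).presheaf.map
        (homOfLE (le_pre hgi ((i ≫ f) ⁻¹ᵁ V))).op
        (pullSect i Ω (g ⁻¹ᵁ ((i ≫ f) ⁻¹ᵁ V)) (d.app (g ⁻¹ᵁ ((i ≫ f) ⁻¹ᵁ V))
          (g.app ((i ≫ f) ⁻¹ᵁ V) ((i ≫ f).app V c)))) = 0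
      have e0 : g ⁻¹ᵁ ((i ≫ f) ⁻¹ᵁ V) ≤ f ⁻¹ᵁ V := by
        rw [← Scheme.Hom.comp_preimage, hgS]
      have e1 : g.app ((i ≫ f) ⁻¹ᵁ V) ((i ≫ f).app V c) =
          f.appLE V (g ⁻¹ᵁ ((i ≫ f) ⁻¹ᵁ V)) e0 c := by
        have e2 : (i ≫ f).app V ≫ g.app ((i ≫ f) ⁻¹ᵁ V) =
            (g ≫ i ≫ f).appLE V (g ⁻¹ᵁ ((i ≫ f) ⁻¹ᵁ V)) le_rfl := by
          rw [Scheme.Hom.app_eq_appLE, Scheme.Hom.app_eq_appLE, Scheme.Hom.appLE_comp_appLE]
        rw [← ConcreteCategory.comp_apply, e2]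
        exact congr($(appLE_congr_hom hgS _ _) c)
      rw [e1, DerAffine.app_appLE, map_zero, map_zero])

theorem retDer_app (V : Z.Opens) (t : Γ(Z, V)) :
    (retDer hgi hgS d).app V t =
      ((Scheme.Modules.pullback i).obj Ω).presheaf.map (homOfLE (le_pre hgi V)).op
        (pullSect i Ω (g ⁻¹ᵁ V) (d.app (g ⁻¹ᵁ V) (g.app V t))) := rfl

/-- Pulled-back sections, over smaller opens. -/
noncomputable def pS {X' X : Scheme.{u}} (h : X' ⟶ X) (M : X.Modules) (U : X.Opens) (V : X'.Opens)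
    (e : V ≤ h ⁻¹ᵁ U) : Γ(M, U) →+ Γ((Scheme.Modules.pullback h).obj M, V) :=
  (((Scheme.Modules.pullback h).obj M).presheaf.map (homOfLE e).op).hom.comp (pullSect h M U).hom

section

variable {X' X : Scheme.{u}} (h : X' ⟶ X) (M : X.Modules)

theorem pS_apply (U : X.Opens) (V : X'.Opens) (e : V ≤ h ⁻¹ᵁ U) (m : Γ(M, U)) :
    pS h M U V e m =
      ((Scheme.Modules.pullback h).obj M).presheaf.map (homOfLE e).op (pullSect h M U m) := rfl

theorem pS_self (U : X.Opens) (e : h ⁻¹ᵁ U ≤ h ⁻¹ᵁ U) (m : Γ(M, U)) :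
    pS h M U (h ⁻¹ᵁ U) e m = pullSect h M U m := by
  have h0 : ((Scheme.Modules.pullback h).obj M).presheaf.map (homOfLE e).op = 𝟙 _ :=
    ((Scheme.Modules.pullback h).obj M).presheaf.map_id _
  rw [pS_apply, h0]
  rfl

theorem pS_map (U U' : X.Opens) (V : X'.Opens) (h' : U' ≤ U) (e : V ≤ h ⁻¹ᵁ U') (m : Γ(M, U)) :
    pS h M U' V e (M.presheaf.map (homOfLE h').op m) =
      pS h M U V (e.trans (h.preimage_mono h')) m := by
  rw [pS_apply, pullSect_map, resM_resM]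
  rfl

theorem map_pS (U : X.Opens) (V V' : X'.Opens) (e : V ≤ h ⁻¹ᵁ U) (e' : V' ≤ V) (m : Γ(M, U)) :
    ((Scheme.Modules.pullback h).obj M).presheaf.map (homOfLE e').op (pS h M U V e m) =
      pS h M U V' (e'.trans e) m := by
  rw [pS_apply, resM_resM]
  rfl

end

theorem app_cls {i : Z ⟶ X} {φ : Omega.conormal i ⟶ (Scheme.Modules.pullback i).obj Ω}
    (hφ : IsConormalDiff i d φ) (W : X.Opens) (V : Z.Opens) (e : V ≤ i ⁻¹ᵁ W)
    (t : Γ(ClSub.idealMod i.ker, W)) :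
    φ.app V (cls i W V e t) = pS i Ω W V e (d.app W (idealSect i.ker W t)) := by
  rw [cls_apply, pS_apply, ← hφ W t]
  exact congr($((Scheme.Modules.Hom.mapPresheaf φ).naturality (homOfLE e).op) (conormalSect i W t))

theorem app_pS {i : Z ⟶ X} {Ω' : Z.Modules} {d' : Der (i ≫ f) Ω'}
    {c : (Scheme.Modules.pullback i).obj Ω ⟶ Ω'}
    (hc : IsDiffCompat i d d' c) (W : X.Opens) (V : Z.Opens) (e : V ≤ i ⁻¹ᵁ W)
    (s : Γ(X, W)) : c.app V (pS i Ω W V e (d.app W s)) = d'.app V (i.appLE W V e s) := by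
  have h2 : i.appLE W V e s = Z.presheaf.map (homOfLE e).op (i.app W s) := rfl
  rw [pS_apply, h2, app_map, ← hc]
  exact congr($((Scheme.Modules.Hom.mapPresheaf c).naturality (homOfLE e).op)
    (pullSect i Ω W (d.app W s)))

variable {d}

theorem pull_univ_hom_ext (hd : IsUniversal d) {F : Z.Modules}
    {α β : (Scheme.Modules.pullback i).obj Ω ⟶ F}
    (H : ∀ (U : X.Opens) (s : Γ(X, U)), α.app (i ⁻¹ᵁ U) (pullSect i Ω U (d.app U s)) =
      β.app (i ⁻¹ᵁ U) (pullSect i Ω U (d.app U s))) : α = β := by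
  apply ((Scheme.Modules.pullbackPushforwardAdjunction i).homEquiv Ω F).injective
  apply univ_hom_ext hd
  intro U a
  rw [Adjunction.homEquiv_unit, Adjunction.homEquiv_unit]
  exact H U a

include hgi hgS in
theorem split [QuasiCompact i] (hd : IsUniversal d) {ΩZ : Z.Modules} {dZ : Der (i ≫ f) ΩZ}
    (hZ : IsUniversal dZ) {φ : Omega.conormal i ⟶ (Scheme.Modules.pullback i).obj Ω}
    (hφ : IsConormalDiff i d φ) {c : (Scheme.Modules.pullback i).obj Ω ⟶ ΩZ}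
    (hc : IsDiffCompat i d dZ c) :
    ∃ (r : (Scheme.Modules.pullback i).obj Ω ⟶ Omega.conormal i)
      (σ : ΩZ ⟶ (Scheme.Modules.pullback i).obj Ω),
      φ ≫ c = 0 ∧ φ ≫ r = 𝟙 _ ∧ σ ≫ c = 𝟙 _ ∧ r ≫ φ + c ≫ σ = 𝟙 _ := by
  have h₁ : i ≫ g ≫ i = i := by rw [← Category.assoc, hgi, Category.id_comp]
  have h₂ : i ≫ 𝟙 X = i := Category.comp_id i
  have hf : (g ≫ i) ≫ f = 𝟙 X ≫ f := by rw [Category.assoc, hgS, Category.id_comp]
  have hr : ∀ (U : X.Opens) (s : Γ(X, U)),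
      (adj i (univLift hd (pairDer h₁ h₂ hf))).app (i ⁻¹ᵁ U) (pullSect i Ω U (d.app U s)) =
        pairSect h₁ h₂ U s := by
    intro U s
    rw [adj_pullSect, univLift_app]
    rfl
  have hσ : ∀ (V : Z.Opens) (t : Γ(Z, V)),
      (univLift hZ (retDer hgi hgS d)).app V (dZ.app V t) =
        pS i Ω (g ⁻¹ᵁ V) V (le_pre hgi V) (d.app (g ⁻¹ᵁ V) (g.app V t)) := by
    intro V t
    rw [univLift_app]
    rfl
  have hid : ∀ (U W : X.Opens) (e : W ≤ U) (s : Γ(X, U)),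
      (𝟙 X : X ⟶ X).appLE U W e s = X.presheaf.map (homOfLE e).op s := by
    intro U W e s
    exact congr($(id_appLE_eq rfl _ e) s)
  refine ⟨adj i (univLift hd (pairDer h₁ h₂ hf)), univLift hZ (retDer hgi hgS d), ?_, ?_, ?_, ?_⟩
  · refine pull_hom_ext i (M := ClSub.idealMod i.ker) fun U s => ?_
    change c.app (i ⁻¹ᵁ U) (φ.app (i ⁻¹ᵁ U) (conormalSect i U s)) = 0
    rw [hφ, hc, app_idealSect, map_zero]
  · refine pull_hom_ext i (M := ClSub.idealMod i.ker) fun U s => ?_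
    change (adj i (univLift hd (pairDer h₁ h₂ hf))).app (i ⁻¹ᵁ U)
      (φ.app (i ⁻¹ᵁ U) (conormalSect i U s)) = conormalSect i U s
    rw [hφ, hr, ← cls_self i U s, ← clsF_idealSect i U _ _ s (app_idealSect i U s)]
    refine clsF_congr i _ U (nb (g ≫ i) (𝟙 X) U) _ le_rfl inf_le_right (le_nb h₁ h₂ U) _ _ _ _ _ _
      ?_
    have h0 : X.presheaf.map (homOfLE (le_refl (nb (g ≫ i) (𝟙 X) U))).op = 𝟙 _ :=
      X.presheaf.map_id _
    have h1 : (g ≫ i).appLE U (nb (g ≫ i) (𝟙 X) U) inf_le_left (idealSect i.ker U s) = 0 := by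
      have h2 : (g ≫ i).appLE U (nb (g ≫ i) (𝟙 X) U) inf_le_left (idealSect i.ker U s) =
          g.appLE (i ⁻¹ᵁ U) (nb (g ≫ i) (𝟙 X) U) inf_le_left (i.app U (idealSect i.ker U s)) := by
        rw [← ConcreteCategory.comp_apply, Scheme.Hom.comp_appLE]
      rw [h2, app_idealSect, map_zero]
    rw [h0, h1, sub_zero, hid]
    rfl
  · refine univ_hom_ext hZ fun V t => ?_
    change c.app V ((univLift hZ (retDer hgi hgS d)).app V (dZ.app V t)) = dZ.app V t
    rw [hσ, app_pS d hc]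
    congr 1
    rw [Scheme.Hom.app_eq_appLE, ← ConcreteCategory.comp_apply, Scheme.Hom.appLE_comp_appLE,
      id_appLE_eq_id hgi]
    rfl
  · refine pull_univ_hom_ext hd fun U s => ?_
    change φ.app (i ⁻¹ᵁ U) ((adj i (univLift hd (pairDer h₁ h₂ hf))).app (i ⁻¹ᵁ U)
      (pullSect i Ω U (d.app U s))) + (univLift hZ (retDer hgi hgS d)).app (i ⁻¹ᵁ U)
        (c.app (i ⁻¹ᵁ U) (pullSect i Ω U (d.app U s))) = pullSect i Ω U (d.app U s)
    rw [hr, hc, hσ, pairSect, clsF, app_cls d hφ, idealSect_idLift, map_sub, map_sub, hid, app_map,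
      pS_map, pS_self]
    have hle : nb (g ≫ i) (𝟙 X) U ≤ g ⁻¹ᵁ (i ⁻¹ᵁ U) := inf_le_left
    have h3 : (g ≫ i).appLE U (nb (g ≫ i) (𝟙 X) U) inf_le_left s =
        X.presheaf.map (homOfLE hle).op (g.app (i ⁻¹ᵁ U) (i.app U s)) := by
      have h4 : (g ≫ i).appLE U (nb (g ≫ i) (𝟙 X) U) inf_le_left s =
          g.appLE (i ⁻¹ᵁ U) (nb (g ≫ i) (𝟙 X) U) hle (i.app U s) := by
        rw [← ConcreteCategory.comp_apply, Scheme.Hom.comp_appLE]
      exact h4
    rw [h3, app_map, pS_map]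
    exact sub_add_cancel _ _

end K583.Retract
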