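import Groth.Agent.OmegaSh.K583.AlgUniv
import Groth.Agent.CohqA.BaseChangeMod
import Mathlib.RingTheory.Kaehler.TensorProduct
import Mathlib.RingTheory.Etale.Kaehler
import Mathlib.Algebra.Category.Ring.Under.Basic
import Mathlib.Algebra.Category.Ring.Constructions

/-!
# Base change of universal derivations of rings (unbundled form)

* `isBC_of_bijective`: general criterion;
* `isBC_of_isPushout`: pushout squares;
* `isBC_of_formallyEtale`: `B → B'` formally étale, same base ring.
-/

set_option autoImplicit false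
universe u

open scoped TensorProduct
open CategoryTheory CategoryTheory.Limits

namespace K583.AlgUnivBC

open K583.AlgUniv Groth.Agent.CohqA.BaseChangeMod

section

variable {A B A' B' : Type u} [CommRing A] [CommRing B] [CommRing A'] [CommRing B']
  {M M' : Type u} [AddCommGroup M] [Module B M] [AddCommGroup M'] [Module B' M']

/-- If `B' ⊗ Ω[B⁄A] → Ω[B'⁄A']` is bijective, then the map between universal derivations is a base
change. -/
theorem isBC_of_equiv [Algebra A B] [Algebra A' B'] [Algebra B B'] {δ : B →+ M}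
    (h : IsAlgUniv (algebraMap A B) δ) {δ' : B' →+ M'} (h' : IsAlgUniv (algebraMap A' B') δ')
    (g : M →+ M') (hg : ∀ (r : B) (m : M), g (r • m) = algebraMap B B' r • g m)
    (hgd : ∀ x, g (δ x) = δ' (algebraMap B B' x))
    (E : B' ⊗[B] Ω[B⁄A] ≃ₗ[B'] Ω[B'⁄A'])
    (hE : ∀ x : B, E (1 ⊗ₜ KaehlerDifferential.D A B x) =
      KaehlerDifferential.D A' B' (algebraMap B B' x)) :
    IsBC (algebraMap B B') g := by
  obtain ⟨e, he⟩ := h.exists_kaehler_equiv
  obtain ⟨e', he'⟩ := h'.exists_kaehler_equiv
  refine ⟨hg, fun Q _ _ t ht => ?_⟩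
  let _ : Module B Q := Module.compHom Q (algebraMap B B')
  have : IsScalarTower B B' Q := IsScalarTower.of_algebraMap_smul fun _ _ => rfl
  let T : Ω[B⁄A] →ₗ[B] Q :=
    { toFun := fun w => t (e w)
      map_add' := fun a b => by rw [map_add, map_add]
      map_smul' := fun r w => by
        rw [map_smul, ht]
        rfl }
  let T' : B' ⊗[B] Ω[B⁄A] →ₗ[B'] Q := T.liftBaseChange B'
  have hT' : ∀ x : B, T' (E.symm (KaehlerDifferential.D A' B' (algebraMap B B' x))) = t (δ x) := by
    intro x
    rw [← hE, LinearEquiv.symm_apply_apply, LinearMap.liftBaseChange_tmul, one_smul]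
    change t (e (KaehlerDifferential.D A B x)) = t (δ x)
    rw [he]
  refine ⟨T' ∘ₗ E.symm.toLinearMap ∘ₗ e'.symm.toLinearMap, fun m => ?_, fun L hL => ?_⟩
  · let _ : Module B M' := Module.compHom M' (algebraMap B B')
    let L₁ : M →ₗ[B] Q :=
      { toFun := fun m => T' (E.symm (e'.symm (g m)))
        map_add' := fun a b => by simp only [map_add]
        map_smul' := fun r m => by
          rw [hg, map_smul, map_smul, map_smul]
          rfl }
    let L₂ : M →ₗ[B] Q := { t with map_smul' := ht }
    have : L₁ = L₂ := h.hom_ext fun x => by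
      change T' (E.symm (e'.symm (g (δ x)))) = t (δ x)
      rw [hgd, ← he', LinearEquiv.symm_apply_apply, hT']
    exact LinearMap.congr_fun this m
  · have key : (L ∘ₗ e'.toLinearMap) ∘ₗ E.toLinearMap = T' := by
      apply TensorProduct.AlgebraTensorModule.ext
      intro b w
      change L (e' (E (b ⊗ₜ w))) = T' (b ⊗ₜ w)
      have h1 : (b ⊗ₜ w : B' ⊗[B] Ω[B⁄A]) = b • ((1 : B') ⊗ₜ w) := by
        rw [TensorProduct.smul_tmul', smul_eq_mul, mul_one]
      rw [h1, map_smul, map_smul, map_smul, map_smul]
      congr 1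
      let L₁ : Ω[B⁄A] →ₗ[B] Q :=
        { toFun := fun w => L (e' (E (1 ⊗ₜ w)))
          map_add' := fun a b => by simp only [TensorProduct.tmul_add, map_add]
          map_smul' := fun r w => by
            have : ((1 : B') ⊗ₜ[B] (r • w)) = algebraMap B B' r • ((1 : B') ⊗ₜ[B] w) := by
              rw [TensorProduct.tmul_smul, algebraMap_smul]
            rw [this, map_smul, map_smul, map_smul]
            rfl }
      have : L₁ = T := (isAlgUniv_D (A := A) (B := B)).hom_ext fun x => by
        change L (e' (E (1 ⊗ₜ KaehlerDifferential.D A B x))) =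
          t (e (KaehlerDifferential.D A B x))
        rw [hE, he', he, ← hgd, hL]
      have h2 := LinearMap.congr_fun this w
      refine h2.trans ?_
      rw [LinearMap.liftBaseChange_tmul, one_smul]
    ext m'
    have h3 := LinearMap.congr_fun key (E.symm (e'.symm m'))
    change L (e' (E (E.symm (e'.symm m')))) = T' (E.symm (e'.symm m')) at h3
    rw [LinearEquiv.apply_symm_apply, LinearEquiv.apply_symm_apply] at h3
    exact h3

/-- Base change of universal derivations along a pushout square. -/
theorem isBC_of_isPushout_alg [Algebra A B] [Algebra A A'] [Algebra B B'] [Algebra A' B']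
    [Algebra A B'] [IsScalarTower A A' B'] [IsScalarTower A B B'] [Algebra.IsPushout A A' B B']
    {δ : B →+ M} (h : IsAlgUniv (algebraMap A B) δ) {δ' : B' →+ M'}
    (h' : IsAlgUniv (algebraMap A' B') δ')
    (g : M →+ M') (hg : ∀ (r : B) (m : M), g (r • m) = algebraMap B B' r • g m)
    (hgd : ∀ x, g (δ x) = δ' (algebraMap B B' x)) :
    IsBC (algebraMap B B') g :=
  isBC_of_equiv h h' g hg hgd (KaehlerDifferential.tensorKaehlerEquiv A A' B B') fun x => by
    rw [KaehlerDifferential.tensorKaehlerEquiv_tmul_D, one_smul]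

/-- Universal derivations and formally étale extensions. -/
theorem isBC_of_formallyEtale [Algebra A B] [Algebra B B'] [Algebra A B'] [IsScalarTower A B B']
    [Algebra.FormallyEtale B B']
    {δ : B →+ M} (h : IsAlgUniv (algebraMap A B) δ) {δ' : B' →+ M'}
    (h' : IsAlgUniv (algebraMap A B') δ')
    (g : M →+ M') (hg : ∀ (r : B) (m : M), g (r • m) = algebraMap B B' r • g m)
    (hgd : ∀ x, g (δ x) = δ' (algebraMap B B' x)) :
    IsBC (algebraMap B B') g :=
  isBC_of_equiv h h' g hg hgd (KaehlerDifferential.tensorKaehlerEquivOfFormallyEtale A B B')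
    fun x => by
      rw [KaehlerDifferential.tensorKaehlerEquivOfFormallyEtale_apply,
        KaehlerDifferential.mapBaseChange_tmul, one_smul, KaehlerDifferential.map_D]

end

/-- Base change of universal derivations along a pushout square of commutative rings. -/
theorem isBC_of_isPushout {A B A' B' : CommRingCat.{u}} {φ : A ⟶ B} {a : A ⟶ A'} {b : B ⟶ B'}
    {φ' : A' ⟶ B'} (hp : IsPushout φ a b φ') {M M' : Type u} [AddCommGroup M] [Module B M]
    [AddCommGroup M'] [Module B' M'] {δ : B →+ M} (h : IsAlgUniv φ.hom δ) {δ' : B' →+ M'}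
    (h' : IsAlgUniv φ'.hom δ') (g : M →+ M') (hg : ∀ (r : B) (m : M), g (r • m) = b.hom r • g m)
    (hgd : ∀ x, g (δ x) = δ' (b.hom x)) : IsBC b.hom g := by
  let _ := φ.hom.toAlgebra
  let _ := a.hom.toAlgebra
  let _ := b.hom.toAlgebra
  let _ := φ'.hom.toAlgebra
  let _ := (φ ≫ b).hom.toAlgebra
  have : IsScalarTower A B B' := IsScalarTower.of_algebraMap_eq' rfl
  have : IsScalarTower A A' B' := IsScalarTower.of_algebraMap_eq' (by
    change (φ ≫ b).hom = (a ≫ φ').hom
    rw [hp.w])
  have : Algebra.IsPushout A A' B B' := by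
    rw [← CommRingCat.isPushout_iff_isPushout]
    exact hp.flip
  exact isBC_of_isPushout_alg (A := A) (B := B) (A' := A') (B' := B') h h' g hg hgd

end K583.AlgUnivBC
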