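import Groth.Prelude.Def_Omega3
import Groth.Agent.Dix.IdealModCartier

/-!
# Classes of sections of the ideal in the conormal sheaf

`i : Z ⟶ X` quasi-compact.
* `idLift i U a ha`: the section of the ideal of `i` with underlying function `a`, for `i♯ a = 0`;
* `cls i W t V e : Γ(conormal i, V)`, the class over `V ≤ i⁻¹ W` of a section `t` of the ideal over `W`;
* `pull_cls`, `app_cls`, ...: its calculus.
-/

set_option autoImplicit false
universe u

open CategoryTheory CategoryTheory.Limits AlgebraicGeometry TopologicalSpace Opposite OmegaSh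

namespace K583.ConSect

section

variable {X : Scheme.{u}} (I : X.IdealSheafData)

theorem idealSect_inj {U : X.Opens} {s t : Γ(ClSub.idealMod I, U)}
    (h : idealSect I U s = idealSect I U t) : s = t :=
  Groth.Agent.Dix.IdealModCartier.val_injective I h

theorem idealSect_smul {U : X.Opens} (a : Γ(X, U)) (s : Γ(ClSub.idealMod I, U)) :
    idealSect I U (a • s) = a * idealSect I U s :=
  Scheme.Modules.Hom.app_smul (ClSub.idealModι I) a s

theorem idealSect_map {U V : X.Opens} (h : V ≤ U) (s : Γ(ClSub.idealMod I, U)) :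
    idealSect I V ((ClSub.idealMod I).presheaf.map (homOfLE h).op s) =
      X.presheaf.map (homOfLE h).op (idealSect I U s) :=
  Groth.Agent.Dix.IdealModCartier.val_res I h s

end

variable {Z X : Scheme.{u}} (i : Z ⟶ X) [QuasiCompact i]

/-- Sections of the ideal of `i` die on `Z`. -/
theorem app_idealSect (U : X.Opens) (s : Γ(ClSub.idealMod i.ker, U)) :
    i.app U (idealSect i.ker U s) = 0 := by
  refine TopCat.Sheaf.eq_of_locally_eq' Z.sheaf
    (fun V : {V : X.affineOpens // (V : X.Opens) ≤ U} => i ⁻¹ᵁ (V.1 : X.Opens))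
    (i ⁻¹ᵁ U) (fun V => (Opens.map i.base).map (homOfLE V.2)) ?_ _ _ ?_
  · intro z hz
    obtain ⟨_, ⟨V, hV, rfl⟩, hzV, hVU⟩ :=
      X.isBasis_affineOpens.exists_subset_of_mem_open hz U.isOpen
    exact Opens.mem_iSup.mpr ⟨⟨⟨V, hV⟩, hVU⟩, hzV⟩
  · intro V
    change Z.presheaf.map ((Opens.map i.base).map (homOfLE V.2)).op (i.app U _) =
      Z.presheaf.map ((Opens.map i.base).map (homOfLE V.2)).op 0
    have h1 : Z.presheaf.map ((Opens.map i.base).map (homOfLE V.2)).op
        (i.app U (idealSect i.ker U s)) =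
        i.app V.1 (X.presheaf.map (homOfLE V.2).op (idealSect i.ker U s)) :=
      congr($(Scheme.Hom.naturality i (homOfLE V.2).op) (idealSect i.ker U s)).symm
    rw [map_zero, h1, ← idealSect_map]
    have hmem := Groth.Agent.Dix.IdealModCartier.val_mem i.ker V.1
      ((ClSub.idealMod i.ker).presheaf.map (homOfLE V.2).op s)
    rw [Scheme.Hom.ker_apply, RingHom.mem_ker] at hmem
    exact hmem

theorem exists_idealSect_eq (U : X.Opens) (a : Γ(X, U)) (ha : i.app U a = 0) :
    ∃ s, idealSect i.ker U s = a := by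
  refine Groth.Agent.Dix.IdealModCartier.exists_val_eq_of_local i.ker U a fun x hx => ?_
  obtain ⟨V, hxV, e⟩ := Groth.Agent.Dix.IdealModCartier.exists_affine_mem_le U x hx
  refine ⟨V, e, hxV, ?_⟩
  rw [Scheme.Hom.ker_apply, RingHom.mem_ker]
  have h1 : (i.app V.1) (X.presheaf.map (homOfLE e).op a) =
      Z.presheaf.map ((Opens.map i.base).map (homOfLE e)).op (i.app U a) := by
    rw [← ConcreteCategory.comp_apply, ← ConcreteCategory.comp_apply]
    exact congr($(Scheme.Hom.naturality i (homOfLE e).op) a)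
  exact h1.trans (by rw [ha, map_zero])

/-- The section of the ideal of `i` with given underlying function. -/
noncomputable def idLift (U : X.Opens) (a : Γ(X, U)) (ha : i.app U a = 0) :
    Γ(ClSub.idealMod i.ker, U) := (exists_idealSect_eq i U a ha).choose

theorem idealSect_idLift (U : X.Opens) (a : Γ(X, U)) (ha : i.app U a = 0) :
    idealSect i.ker U (idLift i U a ha) = a := (exists_idealSect_eq i U a ha).choose_spec

theorem idLift_eq (U : X.Opens) (a : Γ(X, U)) (ha : i.app U a = 0)
    (s : Γ(ClSub.idealMod i.ker, U)) (hs : idealSect i.ker U s = a) : idLift i U a ha = s :=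
  idealSect_inj i.ker ((idealSect_idLift i U a ha).trans hs.symm)

end K583.ConSect

namespace K583.ConSect

variable {Z X : Scheme.{u}} (i : Z ⟶ X)

/-- The class over `V ≤ i⁻¹ W` of a section of the ideal of `i` over `W`. -/
noncomputable def cls (W : X.Opens) (V : Z.Opens) (e : V ≤ i ⁻¹ᵁ W) :
    Γ(ClSub.idealMod i.ker, W) →+ Γ(Omega.conormal i, V) :=
  ((Omega.conormal i).presheaf.map (homOfLE e).op).hom.comp (conormalSect i W).hom

theorem cls_apply (W : X.Opens) (V : Z.Opens) (e : V ≤ i ⁻¹ᵁ W)
    (t : Γ(ClSub.idealMod i.ker, W)) :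
    cls i W V e t = (Omega.conormal i).presheaf.map (homOfLE e).op (conormalSect i W t) := rfl

theorem cls_self (W : X.Opens) (t : Γ(ClSub.idealMod i.ker, W)) :
    cls i W (i ⁻¹ᵁ W) le_rfl t = conormalSect i W t := by
  have h : (Omega.conormal i).presheaf.map (homOfLE (le_refl (i ⁻¹ᵁ W))).op = 𝟙 _ :=
    (Omega.conormal i).presheaf.map_id _
  rw [cls_apply, h]
  rfl

theorem conormalSect_smul (W : X.Opens) (r : Γ(X, W)) (t : Γ(ClSub.idealMod i.ker, W)) :
    conormalSect i W (r • t) = i.app W r • conormalSect i W t :=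
  Scheme.Modules.Hom.app_smul _ r t

theorem cls_smul (W : X.Opens) (V : Z.Opens) (e : V ≤ i ⁻¹ᵁ W) (r : Γ(X, W))
    (t : Γ(ClSub.idealMod i.ker, W)) :
    cls i W V e (r • t) = i.appLE W V e r • cls i W V e t := by
  rw [cls_apply, conormalSect_smul]
  exact Scheme.Modules.map_smul (Omega.conormal i) (homOfLE e) (i.app W r) (conormalSect i W t)

theorem map_cls (W : X.Opens) (V V' : Z.Opens) (e : V ≤ i ⁻¹ᵁ W) (e' : V' ≤ V)
    (t : Γ(ClSub.idealMod i.ker, W)) :
    (Omega.conormal i).presheaf.map (homOfLE e').op (cls i W V e t) =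
      cls i W V' (e'.trans e) t := by
  rw [cls_apply, cls_apply, ← ConcreteCategory.comp_apply, ← Functor.map_comp]
  rfl

theorem cls_map (W W' : X.Opens) (V : Z.Opens) (h : W' ≤ W) (e : V ≤ i ⁻¹ᵁ W')
    (t : Γ(ClSub.idealMod i.ker, W)) :
    cls i W' V e ((ClSub.idealMod i.ker).presheaf.map (homOfLE h).op t) =
      cls i W V (e.trans (i.preimage_mono h)) t := by
  rw [cls_apply, cls_apply]
  have h1 : conormalSect i W' ((ClSub.idealMod i.ker).presheaf.map (homOfLE h).op t) =
      (Omega.conormal i).presheaf.map (homOfLE (i.preimage_mono h)).op (conormalSect i W t) :=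
    congr($((Scheme.Modules.Hom.mapPresheaf
      ((Scheme.Modules.pullbackPushforwardAdjunction i).unit.app
        (ClSub.idealMod i.ker))).naturality (homOfLE h).op) t)
  rw [h1, ← ConcreteCategory.comp_apply, ← Functor.map_comp]
  rfl

/-- Classes only depend on the function, up to restriction. -/
theorem cls_eq_of_map_eq (W W' W'' : X.Opens) (V : Z.Opens) (h : W'' ≤ W) (h' : W'' ≤ W')
    (e : V ≤ i ⁻¹ᵁ W'') (t : Γ(ClSub.idealMod i.ker, W)) (t' : Γ(ClSub.idealMod i.ker, W'))
    (H : X.presheaf.map (homOfLE h).op (idealSect i.ker W t) =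
      X.presheaf.map (homOfLE h').op (idealSect i.ker W' t')) :
    cls i W V (e.trans (i.preimage_mono h)) t = cls i W' V (e.trans (i.preimage_mono h')) t' := by
  rw [← cls_map i W W'' V h e, ← cls_map i W' W'' V h' e]
  congr 1
  apply idealSect_inj
  rw [idealSect_map, idealSect_map, H]

end K583.ConSect
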