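import Groth.Agent.OmegaSh.K583.DerFunct
import Mathlib.AlgebraicGeometry.Morphisms.FormallyUnramified
import Mathlib.AlgebraicGeometry.Normalization
import Groth.Agent.CohqA.PullbackQCoh

/-!
# Vanishing of derivations

* `eq_zero_of_formallyUnramified`: derivations over a formally unramified morphism vanish;
* `eq_zero_of_factor`: a derivation over `q ≫ g` with `g` formally unramified kills functions from `g`.
-/

set_option autoImplicit false
universe u

open CategoryTheory CategoryTheory.Limits AlgebraicGeometry TopologicalSpace Opposite OmegaSh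

namespace K583.DerZero

open K583.DerAffine K583.DerFunct

variable {X Y : Scheme.{u}} {f : X ⟶ Y} {F : X.Modules}

theorem ring_eq_zero {A B M : Type u} [CommRing A] [CommRing B] (φ : A →+* B)
    (hφ : φ.FormallyUnramified) [AddCommGroup M] [Module B M] (δ : B →+ M)
    (hδ : ∀ a b, δ (a * b) = a • δ b + b • δ a) (h0 : ∀ c, δ (φ c) = 0) (b : B) : δ b = 0 := by
  let _ := φ.toAlgebra
  have : Algebra.FormallyUnramified A B := hφ
  let _ : Module A M := Module.compHom M φ
  have : IsScalarTower A B M := IsScalarTower.of_algebraMap_smul fun _ _ => rfl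
  let D : Derivation A B M :=
    { toFun := δ
      map_add' := map_add δ
      map_smul' := fun c b => by
        change δ (c • b) = c • δ b
        rw [Algebra.smul_def]
        change δ (φ c * b) = φ c • δ b
        rw [hδ, h0, smul_zero, add_zero]
      map_one_eq_zero' := by
        have := hδ 1 1
        simpa using this
      leibniz' := hδ }
  have h1 : D = 0 := by
    rw [← D.liftKaehlerDifferential_comp]
    have : D.liftKaehlerDifferential = 0 := LinearMap.ext fun x => by
      have hx : x = 0 := Subsingleton.elim _ _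
      rw [hx, map_zero, map_zero]
    rw [this]
    ext x
    rfl
  exact congr($h1 b)

theorem eq_zero_of_formallyUnramified [FormallyUnramified f] (D : Der f F) (U : X.Opens)
    (a : Γ(X, U)) : D.app U a = 0 := by
  apply eq_of_locally
  intro x hx
  obtain ⟨_, ⟨V, hV, rfl⟩, hxV, -⟩ := Y.isBasis_affineOpens.exists_subset_of_mem_open
    (Set.mem_univ (f x)) isOpen_univ
  obtain ⟨_, ⟨W, hW, rfl⟩, hxW, e⟩ := X.isBasis_affineOpens.exists_subset_of_mem_open
    (show x ∈ ((f ⁻¹ᵁ V ⊓ U : X.Opens) : Set X) from ⟨hxV, hx⟩) (f ⁻¹ᵁ V ⊓ U).isOpen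
  refine ⟨W, fun y hy => (e hy).2, hxW, ?_⟩
  rw [← app_map, map_zero]
  have e1 : W ≤ f ⁻¹ᵁ V := fun y hy => (e hy).1
  exact ring_eq_zero (f.appLE V W e1).hom (FormallyUnramified.formallyUnramified_appLE f hV hW e1)
    (D.app W) (app_mul D W) (fun c => app_appLE D W V e1 c) _

/-- A derivation over `q ≫ g` with `g` formally unramified kills functions coming from `g`. -/
theorem eq_zero_of_factor {T : Scheme.{u}} (q : X ⟶ T) (g : T ⟶ Y) [FormallyUnramified g]
    (hf : q ≫ g = f) (D : Der f F) (U : T.Opens) (a : Γ(T, U)) :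
    D.app (q ⁻¹ᵁ U) (q.app U a) = 0 :=
  eq_zero_of_formallyUnramified (f := g)
    (pushDer (f := g) (f' := f) (h := q) (b := 𝟙 Y) (by rw [Category.comp_id, hf]) D) U a

theorem eq_zero_of_surjective {T : Scheme.{u}} (q : X ⟶ T) (g : T ⟶ Y) [FormallyUnramified g]
    (hf : q ≫ g = f) (D : Der f F) (U : T.Opens) (hU : Function.Surjective (q.app U))
    (W : X.Opens) (hW : q ⁻¹ᵁ U = W) (s : Γ(X, W)) : D.app W s = 0 := by
  subst hW
  obtain ⟨a, rfl⟩ := hU s
  exact eq_zero_of_factor q g hf D U a

end K583.DerZero
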