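import Groth.Agent.DeRham.K852.Maps
import Groth.Agent.CohqA.BaseChangeMod

/-!
# Base change of exterior powers (unbundled form)
-/

set_option autoImplicit false
universe u

open scoped TensorProduct

namespace K583.ExtPowBC

open Groth.Agent.CohqA.BaseChangeMod Groth.Agent.Krr.H495.ExtSemi Groth.Agent.Dual.H366.ExtLoc

variable {A B : Type u} [CommRing A] [CommRing B] {φ : A →+* B}
  {M M' N N' : Type u} [AddCommGroup M] [Module A M] [AddCommGroup M'] [Module A M']
  [AddCommGroup N] [Module B N] [AddCommGroup N'] [Module B N']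

/-- If `g : M → N` is a base change, so is any semilinear `G : ⋀^i M → ⋀^i N` with
`G(m₁ ∧ … ∧ mᵢ) = g m₁ ∧ … ∧ g mᵢ`. -/
theorem isBC_ext {g : M →+ N} (hg : IsBC φ g) (i : ℕ) (G : ↥(⋀[A]^i M) →+ ↥(⋀[B]^i N))
    (hs : ∀ (a : A) x, G (a • x) = φ a • G x)
    (hG : ∀ e : Fin i → M, G (exteriorPower.ιMulti A i e) =
      exteriorPower.ιMulti B i (fun j => g (e j))) : IsBC φ G := by
  let _ := φ.toAlgebra
  let _ : Module A N := Module.compHom N φ
  have : IsScalarTower A B N := IsScalarTower.of_algebraMap_smul fun _ _ => rfl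
  let f : M →ₗ[A] N := { g with map_smul' := hg.map_smul }
  have hf : IsBaseChange B f := (isBC_iff_isBaseChange f).1 hg
  let G' : ↥(⋀[A]^i M) →ₗ[A] ↥(⋀[B]^i N) :=
    { G with
      map_smul' := fun a x => by
        refine (hs a x).trans ?_
        exact algebraMap_smul B a (G x) }
  have hG' : ∀ x, extS i (semi (B := B) f) x = G x := by
    let G'' : ↥(⋀[A]^i M) →ₛₗ[algebraMap A B] ↥(⋀[B]^i N) := { G with map_smul' := hs }
    have : extS i (semi (B := B) f) = G'' := by
      apply extS_hom_ext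
      intro e
      rw [extS_ιMulti]
      exact (hG e).symm
    intro x
    rw [this]
    rfl
  let Φ : B ⊗[A] ↥(⋀[A]^i M) →ₗ[B] ↥(⋀[B]^i N) := G'.liftBaseChange B
  have hΦ : Function.Bijective Φ.toAddMonoidHom :=
    K852.DR.bijective_lift_extS hf i Φ.toAddMonoidHom (fun b x => by
      change G'.liftBaseChange B (b ⊗ₜ x) = _
      rw [LinearMap.liftBaseChange_tmul, hG']
      rfl)
  have h1 : IsBaseChange B G' :=
    IsBaseChange.of_equiv (LinearEquiv.ofBijective Φ hΦ) (fun x => by
      change G'.liftBaseChange B (1 ⊗ₜ x) = G' x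
      rw [LinearMap.liftBaseChange_tmul, one_smul])
  exact (isBC_iff_isBaseChange G').2 h1

/-- Precomposition with a linear equivalence. -/
theorem isBC_comp_equiv {g : M →+ N} (hg : IsBC φ g) (e : M' ≃ₗ[A] M) (g' : M' →+ N)
    (h : ∀ x, g' x = g (e x)) : IsBC φ g' where
  map_smul r x := by rw [h, h, map_smul, hg.map_smul]
  lift Q _ _ t ht := by
    obtain ⟨L, hL, hu⟩ := hg.lift Q (t.comp e.symm.toLinearMap.toAddMonoidHom) (fun r x => by
      change t (e.symm (r • x)) = φ r • t (e.symm x)
      rw [map_smul, ht])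
    refine ⟨L, fun x => ?_, fun L' hL' => hu L' fun x => ?_⟩
    · rw [h, hL]
      exact congrArg t (e.symm_apply_apply x)
    · rw [← e.apply_symm_apply x, ← h, hL']
      change _ = t (e.symm (e (e.symm x)))
      rw [e.symm_apply_apply]

end K583.ExtPowBC
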