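import Groth.Agent.OmegaSh.K583.ConSect
import Groth.Agent.CycB.PushStalk
import Groth.Agent.Fdesc.PullbackStalk
import Groth.Agent.CohqA.BaseChangeMod

/-!
# Stalks of ideal modules and of pull-backs

* `idSt I x : (idealMod I)_x → O_{X,x}`: injective; for `I = i.ker`, `i` quasi-compact inducing, its range
  at `i z` is the kernel of `i.stalkMap z`;
* `isBC_canAdd`: `M_{h x} → (h^* M)_x` is a base change (unbundled form).
-/

set_option autoImplicit false
universe u

open CategoryTheory CategoryTheory.Limits AlgebraicGeometry TopologicalSpace Opposite OmegaSh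

namespace K583.IdealStalk

open Groth.Agent.CycB.StalkExact Groth.Agent.CycB.PushStalk K583.ConSect
  Groth.Agent.Fdesc.PullbackStalk Groth.Agent.CohqA.BaseChangeMod

section

variable {X : Scheme.{u}} (I : X.IdealSheafData)

/-- The stalk of an ideal module, mapped to the local ring. -/
noncomputable def idSt (x : X) : (ClSub.idealMod I).presheaf.stalk x →ₗ[X.presheaf.stalk x]
    X.presheaf.stalk x :=
  (unitStalk X x).symm.toLinearMap ∘ₗ stalkLin (ClSub.idealModι I) x

theorem idSt_germ (x : X) (U : X.Opens) (hx : x ∈ U) (s : Γ(ClSub.idealMod I, U)) :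
    idSt I x ((ClSub.idealMod I).presheaf.germ U x hx s) =
      X.presheaf.germ U x hx (idealSect I U s) := by
  have h1 : stalkLin (ClSub.idealModι I) x ((ClSub.idealMod I).presheaf.germ U x hx s) =
      unitStalk X x (X.presheaf.germ U x hx (idealSect I U s)) := by
    rw [stalkLin_germ]
    exact (unitStalkLin_germ x U hx (idealSect I U s)).symm
  change (unitStalk X x).symm (stalkLin (ClSub.idealModι I) x _) = _
  rw [h1, LinearEquiv.symm_apply_apply]

theorem idSt_injective (x : X) : Function.Injective (idSt I x) := by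
  have : Mono (ClSub.idealModι I) := equalizer.ι_mono
  exact (unitStalk X x).symm.injective.comp (stalkLin_injective _ x)

end

variable {Z X : Scheme.{u}} (i : Z ⟶ X) [QuasiCompact i]

theorem mem_range_idSt_iff (hi : Topology.IsInducing i) (z : Z) (a : X.presheaf.stalk (i z)) :
    a ∈ LinearMap.range (idSt i.ker (i z)) ↔ (i.stalkMap z).hom a = 0 := by
  constructor
  · rintro ⟨m, rfl⟩
    obtain ⟨U, hU, s, rfl⟩ := TopCat.Presheaf.exists_germ_eq _ m
    rw [idSt_germ]
    have h1 : i.stalkMap z (X.presheaf.germ U (i z) hU (idealSect i.ker U s)) =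
      Z.presheaf.germ (i ⁻¹ᵁ U) z hU (i.app U (idealSect i.ker U s)) :=
        Scheme.Hom.germ_stalkMap_apply i U z hU _
    refine h1.trans ?_
    rw [app_idealSect, map_zero]
  · intro ha
    obtain ⟨U, hU, s, rfl⟩ := TopCat.Presheaf.exists_germ_eq _ a
    have h1 : i.stalkMap z (X.presheaf.germ U (i z) hU s) =
      Z.presheaf.germ (i ⁻¹ᵁ U) z hU (i.app U s) :=
        Scheme.Hom.germ_stalkMap_apply i U z hU _
    have h2 : Z.presheaf.germ (i ⁻¹ᵁ U) z hU (i.app U s) =
        Z.presheaf.germ (i ⁻¹ᵁ U) z hU 0 := by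
      rw [map_zero]
      exact h1.symm.trans ha
    obtain ⟨W, hW, e1, e2, h3⟩ := TopCat.Presheaf.germ_eq Z.presheaf z hU hU _ _ h2
    obtain ⟨V, hVo, hV⟩ := hi.isOpen_iff.1 W.isOpen
    let U' : X.Opens := U ⊓ ⟨V, hVo⟩
    have hzU' : i z ∈ U' := ⟨hU, by
      have : z ∈ i ⁻¹' V := by rw [hV]; exact hW
      exact this⟩
    have hle : i ⁻¹ᵁ U' ≤ W := fun y hy => by
      have : y ∈ i ⁻¹' V := hy.2
      rw [hV] at this
      exact this
    have h4 : i.app U' (X.presheaf.map (homOfLE (inf_le_left : U' ≤ U)).op s) = 0 := by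
      have h5 : i.app U' (X.presheaf.map (homOfLE (inf_le_left : U' ≤ U)).op s) =
          Z.presheaf.map (homOfLE hle).op (Z.presheaf.map e1.op (i.app U s)) := by
        have h6 : i.app U' (X.presheaf.map (homOfLE (inf_le_left : U' ≤ U)).op s) =
          Z.presheaf.map ((Opens.map i.base).map (homOfLE (inf_le_left : U' ≤ U))).op (i.app U s) :=
          congr($(Scheme.Hom.naturality i (homOfLE (inf_le_left : U' ≤ U)).op) s)
        have h7 : Z.presheaf.map (homOfLE hle).op (Z.presheaf.map e1.op (i.app U s)) =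
            Z.presheaf.map (e1.op ≫ (homOfLE hle).op) (i.app U s) := by
          rw [Functor.map_comp]
          rfl
        exact h6.trans h7.symm
      rw [h5, h3, map_zero, map_zero]
    refine ⟨(ClSub.idealMod i.ker).presheaf.germ U' (i z) hzU' (idLift i U' _ h4), ?_⟩
    rw [idSt_germ, idealSect_idLift]
    exact TopCat.Presheaf.germ_res_apply X.presheaf _ _ hzU' s

omit [QuasiCompact i] in
/-- `M_{h x} → (h^* M)_x` is a base change. -/
theorem isBC_canAdd (h : Z ⟶ X) (M : X.Modules) (z : Z) :
    IsBC (h.stalkMap z).hom (canAdd h M z) where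
  map_smul := canAdd_smul h M z
  lift _ _ _ g hg := ⟨lift h g hg, lift_canAdd h g hg, fun _ hg' =>
    lift_unique h _ _ fun t => (hg' t).trans (lift_canAdd h g hg t).symm⟩

end K583.IdealStalk
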