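import Groth.Prelude.Def_Omega4
import Groth.Agent.OmegaSh.K583.ConSect
import Groth.Agent.OmegaSh.K583.DerFunct

/-!
# The derivation attached to two morphisms agreeing on a subscheme

`i : Z ⟶ P` quasi-compact, `q₁ q₂ : P ⟶ X` with `i ≫ q₁ = i ≫ q₂ = h` and `q₁ ≫ f = q₂ ≫ f`:
* `pairDer : Der f (h_* conormal i)`, `s ↦ [q₂♯ s − q₁♯ s]`;
* `cls_pairDer`: its values in terms of `cls`.
-/

set_option autoImplicit false
universe u

open CategoryTheory CategoryTheory.Limits AlgebraicGeometry TopologicalSpace Opposite OmegaSh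

namespace K583.PairDer

open K583.ConSect K583.DerAffine

variable {Z P X Y : Scheme.{u}} (i : Z ⟶ P) [QuasiCompact i]

/-- The class of a function vanishing on `Z`. -/
noncomputable def clsF (W : P.Opens) (V : Z.Opens) (e : V ≤ i ⁻¹ᵁ W) (a : Γ(P, W))
    (ha : i.app W a = 0) : Γ(Omega.conormal i, V) := cls i W V e (idLift i W a ha)

theorem clsF_idealSect (W : P.Opens) (V : Z.Opens) (e : V ≤ i ⁻¹ᵁ W)
    (t : Γ(ClSub.idealMod i.ker, W)) (ht : i.app W (idealSect i.ker W t) = 0) :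
    clsF i W V e (idealSect i.ker W t) ht = cls i W V e t := by
  rw [clsF, idLift_eq i W _ ht t rfl]

theorem clsF_add (W : P.Opens) (V : Z.Opens) (e : V ≤ i ⁻¹ᵁ W) (a b : Γ(P, W))
    (ha : i.app W a = 0) (hb : i.app W b = 0) (hab : i.app W (a + b) = 0) :
    clsF i W V e (a + b) hab = clsF i W V e a ha + clsF i W V e b hb := by
  rw [clsF, clsF, clsF, ← map_add]
  congr 1
  apply idLift_eq
  rw [map_add, idealSect_idLift, idealSect_idLift]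

theorem clsF_mul (W : P.Opens) (V : Z.Opens) (e : V ≤ i ⁻¹ᵁ W) (r a : Γ(P, W))
    (ha : i.app W a = 0) (hra : i.app W (r * a) = 0) :
    clsF i W V e (r * a) hra = i.appLE W V e r • clsF i W V e a ha := by
  rw [clsF, clsF, ← cls_smul]
  congr 1
  apply idLift_eq
  rw [idealSect_smul, idealSect_idLift]

theorem clsF_zero (W : P.Opens) (V : Z.Opens) (e : V ≤ i ⁻¹ᵁ W) (a : Γ(P, W))
    (ha : i.app W a = 0) (h0 : a = 0) : clsF i W V e a ha = 0 := by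
  subst h0
  have : idLift i W 0 ha = 0 := idLift_eq i W 0 ha 0 (map_zero _)
  rw [clsF, this, map_zero]

theorem clsF_congr (W W' W'' : P.Opens) (V : Z.Opens) (h : W'' ≤ W) (h' : W'' ≤ W')
    (e : V ≤ i ⁻¹ᵁ W'') (e₁ : V ≤ i ⁻¹ᵁ W) (e₂ : V ≤ i ⁻¹ᵁ W') (a : Γ(P, W)) (ha : i.app W a = 0)
    (b : Γ(P, W')) (hb : i.app W' b = 0)
    (H : P.presheaf.map (homOfLE h).op a = P.presheaf.map (homOfLE h').op b) :
    clsF i W V e₁ a ha = clsF i W' V e₂ b hb :=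
  cls_eq_of_map_eq i W W' W'' V h h' e _ _ (by rw [idealSect_idLift, idealSect_idLift, H])

theorem map_clsF (W : P.Opens) (V V' : Z.Opens) (e : V ≤ i ⁻¹ᵁ W) (e' : V' ≤ V) (a : Γ(P, W))
    (ha : i.app W a = 0) :
    (Omega.conormal i).presheaf.map (homOfLE e').op (clsF i W V e a ha) =
      clsF i W V' (e'.trans e) a ha := map_cls i W V V' e e' _

variable {i} {q₁ q₂ : P ⟶ X} {h : Z ⟶ X} (h₁ : i ≫ q₁ = h) (h₂ : i ≫ q₂ = h)
  {f : X ⟶ Y} (hf : q₁ ≫ f = q₂ ≫ f)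

omit [QuasiCompact i] in
theorem app_appLE {q : P ⟶ X} (hq : i ≫ q = h) (U : X.Opens) (W : P.Opens) (e : W ≤ q ⁻¹ᵁ U)
    (e' : i ⁻¹ᵁ W ≤ h ⁻¹ᵁ U) (s : Γ(X, U)) :
    i.app W (q.appLE U W e s) = h.appLE U (i ⁻¹ᵁ W) e' s := by
  subst hq
  rw [← ConcreteCategory.comp_apply, Scheme.Hom.app_eq_appLE, Scheme.Hom.appLE_comp_appLE]

omit [QuasiCompact i] in
theorem appLE_appLE {q : P ⟶ X} (hq : i ≫ q = h) (U : X.Opens) (W : P.Opens) (e : W ≤ q ⁻¹ᵁ U)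
    (V : Z.Opens) (e₁ : V ≤ i ⁻¹ᵁ W) (e' : V ≤ h ⁻¹ᵁ U) (s : Γ(X, U)) :
    i.appLE W V e₁ (q.appLE U W e s) = h.appLE U V e' s := by
  subst hq
  rw [← ConcreteCategory.comp_apply, Scheme.Hom.appLE_comp_appLE]

omit [QuasiCompact i] in
include h₁ h₂ in
theorem app_sub (U : X.Opens) (W : P.Opens) (e₁ : W ≤ q₁ ⁻¹ᵁ U) (e₂ : W ≤ q₂ ⁻¹ᵁ U)
    (s : Γ(X, U)) : i.app W (q₂.appLE U W e₂ s - q₁.appLE U W e₁ s) = 0 := by
  have e' : i ⁻¹ᵁ W ≤ h ⁻¹ᵁ U := by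
    subst h₁
    exact i.preimage_mono e₁
  rw [map_sub, app_appLE h₁ U W e₁ e', app_appLE h₂ U W e₂ e', sub_self]

/-- The common domain. -/
abbrev nb (q₁ q₂ : P ⟶ X) (U : X.Opens) : P.Opens := q₁ ⁻¹ᵁ U ⊓ q₂ ⁻¹ᵁ U

omit [QuasiCompact i] in
include h₁ h₂ in
theorem le_nb (U : X.Opens) : h ⁻¹ᵁ U ≤ i ⁻¹ᵁ (nb q₁ q₂ U) := by
  intro z hz
  refine ⟨?_, ?_⟩
  · subst h₁; exact hz
  · subst h₂; exact hz

/-- `[q₂♯ s − q₁♯ s]`. -/
noncomputable def pairSect (U : X.Opens) (s : Γ(X, U)) : Γ(Omega.conormal i, h ⁻¹ᵁ U) :=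
  clsF i (nb q₁ q₂ U) (h ⁻¹ᵁ U) (le_nb h₁ h₂ U)
    (q₂.appLE U (nb q₁ q₂ U) inf_le_right s - q₁.appLE U (nb q₁ q₂ U) inf_le_left s)
    (app_sub h₁ h₂ U _ inf_le_left inf_le_right s)

/-- The values of `pairSect` over smaller opens. -/
theorem map_pairSect (U : X.Opens) (s : Γ(X, U)) (W : P.Opens) (e₁ : W ≤ q₁ ⁻¹ᵁ U)
    (e₂ : W ≤ q₂ ⁻¹ᵁ U) (V : Z.Opens) (hV : V ≤ h ⁻¹ᵁ U) (e : V ≤ i ⁻¹ᵁ W) :
    (Omega.conormal i).presheaf.map (homOfLE hV).op (pairSect h₁ h₂ U s) =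
      clsF i W V e (q₂.appLE U W e₂ s - q₁.appLE U W e₁ s) (app_sub h₁ h₂ U W e₁ e₂ s) := by
  rw [pairSect, map_clsF]
  refine clsF_congr i _ W W V (le_inf e₁ e₂) le_rfl e _ _ _ _ _ _ ?_
  have h0 : P.presheaf.map (homOfLE (le_refl W)).op = 𝟙 _ := P.presheaf.map_id _
  rw [h0, map_sub, ← ConcreteCategory.comp_apply, ← ConcreteCategory.comp_apply,
    Scheme.Hom.appLE_map, Scheme.Hom.appLE_map]
  rfl

/-- The derivation `s ↦ [q₂♯ s − q₁♯ s]`. -/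
noncomputable def pairDer : Der f ((Scheme.Modules.pushforward h).obj (Omega.conormal i)) :=
  mkDer f _ (fun U => AddMonoidHom.mk' (fun s => pairSect h₁ h₂ U s) (fun a b => by
      change pairSect h₁ h₂ U (a + b) = pairSect h₁ h₂ U a + pairSect h₁ h₂ U b
      unfold pairSect
      rw [← clsF_add]
      · congr 1
        rw [map_add, map_add]
        abel
      · rw [map_add, app_sub h₁ h₂, app_sub h₁ h₂, add_zero]))
    (fun U a b => by
      change pairSect h₁ h₂ U (a * b) =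
        h.app U a • pairSect h₁ h₂ U b + h.app U b • pairSect h₁ h₂ U a
      have ea : h.app U a = i.appLE (nb q₁ q₂ U) (h ⁻¹ᵁ U) (le_nb h₁ h₂ U)
          (q₂.appLE U (nb q₁ q₂ U) inf_le_right a) := by
        rw [appLE_appLE h₂ U _ _ _ _ le_rfl, Scheme.Hom.app_eq_appLE]
      have eb : h.app U b = i.appLE (nb q₁ q₂ U) (h ⁻¹ᵁ U) (le_nb h₁ h₂ U)
          (q₁.appLE U (nb q₁ q₂ U) inf_le_left b) := by
        rw [appLE_appLE h₁ U _ _ _ _ le_rfl, Scheme.Hom.app_eq_appLE]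
      unfold pairSect
      have z1 : i.app (nb q₁ q₂ U) (q₂.appLE U (nb q₁ q₂ U) inf_le_right a *
          (q₂.appLE U (nb q₁ q₂ U) inf_le_right b - q₁.appLE U (nb q₁ q₂ U) inf_le_left b)) = 0 := by
        rw [map_mul, app_sub h₁ h₂, mul_zero]
      have z2 : i.app (nb q₁ q₂ U) (q₁.appLE U (nb q₁ q₂ U) inf_le_left b *
          (q₂.appLE U (nb q₁ q₂ U) inf_le_right a - q₁.appLE U (nb q₁ q₂ U) inf_le_left a)) = 0 := by
        rw [map_mul, app_sub h₁ h₂, mul_zero]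
      rw [ea, eb, ← clsF_mul i _ _ _ _ _ _ z1, ← clsF_mul i _ _ _ _ _ _ z2, ← clsF_add]
      · congr 1
        rw [map_mul, map_mul]
        ring
      · rw [map_add, z1, z2, add_zero])
    (fun U V e a => by
      change pairSect h₁ h₂ V (X.presheaf.map (homOfLE e).op a) =
        (Omega.conormal i).presheaf.map (homOfLE (h.preimage_mono e)).op (pairSect h₁ h₂ U a)
      rw [map_pairSect h₁ h₂ U a (nb q₁ q₂ V) (inf_le_left.trans (q₁.preimage_mono e))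
        (inf_le_right.trans (q₂.preimage_mono e)) _ _ (le_nb h₁ h₂ V)]
      unfold pairSect
      congr 1
      rw [← ConcreteCategory.comp_apply, ← ConcreteCategory.comp_apply, Scheme.Hom.map_appLE,
        Scheme.Hom.map_appLE])
    (fun V c => by
      change pairSect h₁ h₂ (f ⁻¹ᵁ V) (f.app V c) = 0
      unfold pairSect
      apply clsF_zero
      have e : nb q₁ q₂ (f ⁻¹ᵁ V) ≤ (q₁ ≫ f) ⁻¹ᵁ V := inf_le_left
      have e' : nb q₁ q₂ (f ⁻¹ᵁ V) ≤ (q₂ ≫ f) ⁻¹ᵁ V := inf_le_right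
      have k1 : q₁.appLE (f ⁻¹ᵁ V) (nb q₁ q₂ (f ⁻¹ᵁ V)) inf_le_left (f.app V c) =
          (q₁ ≫ f).appLE V _ e c := by
        rw [← ConcreteCategory.comp_apply, Scheme.Hom.comp_appLE]
      have k2 : q₂.appLE (f ⁻¹ᵁ V) (nb q₁ q₂ (f ⁻¹ᵁ V)) inf_le_right (f.app V c) =
          (q₂ ≫ f).appLE V _ e' c := by
        rw [← ConcreteCategory.comp_apply, Scheme.Hom.comp_appLE]
      rw [k1, k2, sub_eq_zero]
      exact congr($(appLE_congr_hom (Y := Y) hf.symm _ _) c))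

theorem pairDer_app (U : X.Opens) (s : Γ(X, U)) :
    (pairDer h₁ h₂ hf).app U s = (show Γ((Scheme.Modules.pushforward h).obj (Omega.conormal i), U)
      from pairSect h₁ h₂ U s) := rfl

end K583.PairDer
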