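import Groth.Agent.OmegaSh.K583.DerZero
import Groth.Agent.S3701
import Groth.Agent.Flat2B.SmoothGeom
import Groth.Agent.FlatA.AppIso

/-!
# Functions on preimages of opens are killed by derivations for proper smooth morphisms
-/

set_option autoImplicit false
universe u

open CategoryTheory CategoryTheory.Limits AlgebraicGeometry TopologicalSpace Opposite OmegaSh

namespace K583.ProperSmooth

theorem etale_fromNormalization {X S : Scheme.{u}} (f : X ⟶ S) [IsProper f] [Smooth f] :
    Etale f.fromNormalization := by
  have := Groth.Agent.Flat2B.SmoothGeom.geometricallyReduced_of_smooth f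
  exact (Groth.Agent.Pi1A.SteinEtale.main
    (fun f _ => Groth.Agent.S0388.result f)
    (fun f s hs _ _ _ _ y hy => Groth.Agent.S1327.result f s hs y hy)
    (fun f _ _ _ h V => Groth.Agent.S0981.result f h V)
    (fun f q _ _ _ _ => Groth.Agent.S0114.result f q)
    (fun f g _ _ _ => Groth.Agent.S1128.result f g) f).2.1

theorem der_eq_zero {X S : Scheme.{u}} (f : X ⟶ S) [IsProper f] [Smooth f] {F : X.Modules}
    (D : Der f F) (V : S.Opens) (s : Γ(X, f ⁻¹ᵁ V)) : D.app (f ⁻¹ᵁ V) s = 0 := by
  have := etale_fromNormalization f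
  have h1 : IsIso (f.toNormalization.app (f.fromNormalization ⁻¹ᵁ V)) :=
    Groth.Agent.FlatA.AppIso.isIso_toNormalization_app f _
  refine K583.DerZero.eq_zero_of_surjective f.toNormalization f.fromNormalization (by simp) D
    (f.fromNormalization ⁻¹ᵁ V) ?_ _ ?_ s
  · exact (ConcreteCategory.bijective_of_isIso
      (f.toNormalization.app (f.fromNormalization ⁻¹ᵁ V))).2
  · rw [← Scheme.Hom.comp_preimage]
    simp

end K583.ProperSmooth
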